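import Mathlib

/-!
# Extension field subgroups: basic tools

`V` is a vector space over a field `K`, which is an extension of `F`.
We work in the group of units of `Module.End F V`.
-/

set_option autoImplicit false
set_option linter.unusedSectionVars false

open Module

namespace Cfsg.Agent.Lib.ExtField.Basic

variable {F K V : Type*} [Field F] [Field K] [Algebra F K] [AddCommGroup V] [Module F V]
  [Module K V] [IsScalarTower F K V]

/-! ### Units of the endomorphism ring -/

section Units

@[simp] theorem val_inv_apply (g : (Module.End F V)ˣ) (v : V) : g.1 (g⁻¹.1 v) = v := by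
  have h : (g.1 * g⁻¹.1) v = v := by rw [Units.mul_inv]; rfl
  exact h

@[simp] theorem inv_val_apply (g : (Module.End F V)ˣ) (v : V) : g⁻¹.1 (g.1 v) = v := by
  have h : (g⁻¹.1 * g.1) v = v := by rw [Units.inv_mul]; rfl
  exact h

@[simp] theorem mul_val_apply (g g' : (Module.End F V)ˣ) (v : V) :
    (g * g').1 v = g.1 (g'.1 v) := rfl

/-- `1 + Z` as a unit when `Z² = 0`. -/
def uni (Z : Module.End F V) (h : Z * Z = 0) : (Module.End F V)ˣ where
  val := 1 + Z
  inv := 1 - Z
  val_inv := by
    have : (1 + Z) * (1 - Z) = 1 - Z * Z := by noncomm_ring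
    rw [this, h, sub_zero]
  inv_val := by
    have : (1 - Z) * (1 + Z) = 1 - Z * Z := by noncomm_ring
    rw [this, h, sub_zero]

@[simp] theorem uni_val (Z : Module.End F V) (h : Z * Z = 0) : (uni Z h).1 = 1 + Z := rfl

theorem uni_apply (Z : Module.End F V) (h : Z * Z = 0) (v : V) : (uni Z h).1 v = v + Z v := rfl

@[simp] theorem uni_inv_val (Z : Module.End F V) (h : Z * Z = 0) : (uni Z h)⁻¹.1 = 1 - Z := rfl

theorem uni_inv_apply (Z : Module.End F V) (h : Z * Z = 0) (v : V) :
    (uni Z h)⁻¹.1 v = v - Z v := rfl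

/-- `Z` is in the subgroup `H` (in the sense `1 + Z ∈ H`). -/
def InH (H : Subgroup (Module.End F V)ˣ) (Z : Module.End F V) : Prop :=
  ∃ h : Z * Z = 0, uni Z h ∈ H

theorem InH.add {H : Subgroup (Module.End F V)ˣ} {Z Z' : Module.End F V} (h : InH H Z)
    (h' : InH H Z') (h1 : Z * Z' = 0) (h2 : Z' * Z = 0) : InH H (Z + Z') := by
  obtain ⟨hz, hm⟩ := h
  obtain ⟨hz', hm'⟩ := h'
  have hs : (Z + Z') * (Z + Z') = 0 := by
    rw [add_mul, mul_add, mul_add, hz, hz', h1, h2]; simp
  refine ⟨hs, ?_⟩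
  have : uni (Z + Z') hs = uni Z hz * uni Z' hz' := by
    apply Units.ext
    simp only [uni_val, Units.val_mul]
    have h3 : (1 + Z) * (1 + Z') = 1 + Z + Z' + Z * Z' := by noncomm_ring
    rw [h3, h1, add_zero, add_assoc]
  rw [this]
  exact H.mul_mem hm hm'

theorem InH.neg {H : Subgroup (Module.End F V)ˣ} {Z : Module.End F V} (h : InH H Z) :
    InH H (-Z) := by
  obtain ⟨hz, hm⟩ := h
  have hs : (-Z) * (-Z) = 0 := by rw [neg_mul_neg, hz]
  refine ⟨hs, ?_⟩
  have : uni (-Z) hs = (uni Z hz)⁻¹ := by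
    apply Units.ext
    simp only [uni_val, uni_inv_val]
    abel
  rw [this]
  exact H.inv_mem hm

theorem InH.sub {H : Subgroup (Module.End F V)ˣ} {Z Z' : Module.End F V} (h : InH H Z)
    (h' : InH H Z') (h1 : Z * Z' = 0) (h2 : Z' * Z = 0) : InH H (Z - Z') := by
  rw [sub_eq_add_neg]
  exact h.add h'.neg (by rw [mul_neg, h1, neg_zero]) (by rw [neg_mul, h2, neg_zero])

theorem InH.conj {H : Subgroup (Module.End F V)ˣ} {Z : Module.End F V} (h : InH H Z)
    {g : (Module.End F V)ˣ} (hg : g ∈ H) : InH H (g.1 * Z * g⁻¹.1) := by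
  obtain ⟨hz, hm⟩ := h
  have hs : (g.1 * Z * g⁻¹.1) * (g.1 * Z * g⁻¹.1) = 0 := by
    calc _ = g.1 * Z * (g⁻¹.1 * g.1) * Z * g⁻¹.1 := by noncomm_ring
      _ = 0 := by
        rw [Units.inv_mul, mul_one, mul_assoc g.1 Z Z, hz]; simp
  refine ⟨hs, ?_⟩
  have : uni (g.1 * Z * g⁻¹.1) hs = g * uni Z hz * g⁻¹ := by
    apply Units.ext
    simp only [uni_val, Units.val_mul]
    rw [mul_add, mul_one, add_mul, Units.mul_inv]
  rw [this]
  exact H.mul_mem (H.mul_mem hg hm) (H.inv_mem hg)

theorem InH.of_eq {H : Subgroup (Module.End F V)ˣ} {Z Z' : Module.End F V} (h : InH H Z)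
    (hzz : Z' = Z) : InH H Z' := hzz ▸ h

theorem InH.zero (H : Subgroup (Module.End F V)ˣ) : InH H (0 : Module.End F V) := by
  refine ⟨by simp, ?_⟩
  have : uni (0 : Module.End F V) (by simp) = 1 := by
    apply Units.ext
    simp
  rw [this]
  exact H.one_mem

/-- The commutator formula. -/
theorem comm_formula {R : Type*} [Ring R] (A B : R) (hA : A * A = 0) (hB : B * B = 0) :
    (1 + A) * (1 + B) * (1 - A) * (1 - B) =
      1 + (A * B - B * A + B * A * B - A * B * A + A * B * A * B) := by
  have h1 : (1 + A) * (1 + B) * (1 - A) * (1 - B) =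
      1 + (A * B - B * A + B * A * B - A * B * A + A * B * A * B)
        - A * A + (A * A) * B - B * B - A * (B * B) := by
    noncomm_ring
  rw [h1, hA, hB]
  simp

/-- A commutator gives an element of `H`. -/
theorem inH_of_comm {H : Subgroup (Module.End F V)ˣ} {A B W : Module.End F V} (hA : InH H A)
    (hB : InH H B) (hW : A * B - B * A + B * A * B - A * B * A + A * B * A * B = W)
    (hWW : W * W = 0) : InH H W := by
  obtain ⟨hA2, hAm⟩ := hA
  obtain ⟨hB2, hBm⟩ := hB
  refine ⟨hWW, ?_⟩
  have : uni W hWW = uni A hA2 * uni B hB2 * (uni A hA2)⁻¹ * (uni B hB2)⁻¹ := by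
    apply Units.ext
    simp only [uni_val, Units.val_mul, uni_inv_val]
    rw [comm_formula A B hA2 hB2, hW]
  rw [this]
  exact H.mul_mem (H.mul_mem (H.mul_mem hAm hBm) (H.inv_mem hAm)) (H.inv_mem hBm)

end Units

/-! ### Determinants of unipotent elements -/

section Det

theorem one_add_pow_of_sq_zero {R : Type*} [Ring R] (Z : R) (h : Z * Z = 0) (k : ℕ) :
    (1 + Z) ^ k = 1 + (k : R) * Z := by
  induction k with
  | zero => simp
  | succ k ih =>
    rw [pow_succ, ih]
    push_cast
    have : (1 + (k : R) * Z) * (1 + Z) = 1 + Z + (k : R) * Z + (k : R) * (Z * Z) := by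
      noncomm_ring
    rw [this, h]
    noncomm_ring

theorem det_uni [Finite F] (Z : Module.End F V) (h : Z * Z = 0) :
    LinearMap.det (uni Z h).1 = 1 := by
  classical
  obtain ⟨p, hp⟩ := CharP.exists F
  have hp0 : p ≠ 0 := by
    intro h0
    subst h0
    have := CharP.charP_to_charZero F
    exact not_finite F
  have hpp : p.Prime := (CharP.char_is_prime_or_zero F p).resolve_right hp0
  have : Fact p.Prime := ⟨hpp⟩
  have h1 : (1 + Z) ^ p = 1 := by
    rw [one_add_pow_of_sq_zero Z h p]
    have : ((p : Module.End F V)) = 0 := by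
      ext v
      have h2 : (p : F) • v = 0 := by rw [CharP.cast_eq_zero F p, zero_smul]
      rw [Nat.cast_smul_eq_nsmul] at h2
      simpa using h2
    rw [this]
    simp
  have h2 : (LinearMap.det (1 + Z)) ^ p = 1 := by
    rw [← map_pow, h1, map_one]
  have h3 : (frobenius F p) (LinearMap.det (1 + Z)) = frobenius F p 1 := by
    rw [frobenius_def, h2, map_one]
  exact frobenius_inj F p h3

end Det

/-! ### The `K`-structure -/

section KStructure

/-- Semilinear elements over `K`. -/
def IsSemi (K : Type*) [Field K] [Module K V] (g : (Module.End F V)ˣ) : Prop :=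
  ∀ c : K, ∃ c' : K, ∀ v, g.1 (c • v) = c' • g.1 v

/-- The `F`-linear map `v ↦ φ v • s`. -/
def kmap (φ : V →ₗ[K] K) (s : V) : Module.End F V where
  toFun v := φ v • s
  map_add' x y := by simp [add_smul]
  map_smul' f v := by
    simp only [LinearMap.map_smul_of_tower, RingHom.id_apply]
    rw [smul_assoc]

@[simp] theorem kmap_apply (φ : V →ₗ[K] K) (s v : V) : (kmap (F := F) φ s) v = φ v • s := rfl

theorem kmap_sq {φ : V →ₗ[K] K} {s : V} (h : φ s = 0) : kmap (F := F) φ s * kmap (F := F) φ s = 0 := by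
  ext v
  simp [h]

/-- Functionals separating a point from a subspace. -/
theorem exists_functional {S : Submodule K V} {x : V} (hx : x ∉ S) :
    ∃ φ : V →ₗ[K] K, (∀ s ∈ S, φ s = 0) ∧ φ x = 1 := by
  obtain ⟨f, hf, hS⟩ := Submodule.exists_le_ker_of_notMem hx
  refine ⟨(f x)⁻¹ • f, fun s hs => ?_, ?_⟩
  · have : f s = 0 := hS hs
    simp [this]
  · simp [inv_mul_cancel₀ hf]

theorem semi_uni_kmap {φ : V →ₗ[K] K} {s : V} (h : φ s = 0) :
    IsSemi (F := F) K (uni (kmap φ s) (kmap_sq h)) := by
  intro c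
  refine ⟨c, fun v => ?_⟩
  simp only [uni_apply, kmap_apply, map_smul, smul_eq_mul, smul_add, mul_smul]

theorem semi_uni_kmap_inv {φ : V →ₗ[K] K} {s : V} (h : φ s = 0) :
    IsSemi (F := F) K (uni (kmap φ s) (kmap_sq h))⁻¹ := by
  intro c
  refine ⟨c, fun v => ?_⟩
  simp only [uni_inv_apply, kmap_apply, map_smul, smul_eq_mul, smul_sub, mul_smul]

/-- `K`-line as an `F`-subspace. -/
def kline (F K : Type*) {V : Type*} [Field F] [Field K] [Algebra F K] [AddCommGroup V] [Module F V]
    [Module K V] [IsScalarTower F K V] (w : V) : Submodule F V :=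
  (Submodule.span K {w}).restrictScalars F

theorem mem_kline {w x : V} : x ∈ kline F K w ↔ ∃ c : K, c • w = x := by
  simp [kline, Submodule.mem_span_singleton]

theorem smul_mem_kline {w x : V} (hx : x ∈ kline F K w) (c : K) : c • x ∈ kline F K w := by
  rw [mem_kline] at hx ⊢
  obtain ⟨a, rfl⟩ := hx
  exact ⟨c * a, mul_smul _ _ _⟩

theorem self_mem_kline (w : V) : w ∈ kline F K w := by
  rw [mem_kline]
  exact ⟨1, one_smul _ _⟩

variable [Finite F]

/-- Hypothesis: a subgroup containing the elements of determinant one normalizing `K`. -/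
def ContainsM (K : Type*) [Field K] [Module K V] (H : Subgroup (Module.End F V)ˣ) : Prop :=
  ∀ g : (Module.End F V)ˣ, IsSemi K g → IsSemi K g⁻¹ → LinearMap.det g.1 = 1 → g ∈ H

theorem kroot_mem {H : Subgroup (Module.End F V)ˣ} (hM : ContainsM K H) {φ : V →ₗ[K] K} {s : V}
    (h : φ s = 0) : uni (kmap φ s) (kmap_sq h) ∈ H :=
  hM _ (semi_uni_kmap h) (semi_uni_kmap_inv h) (det_uni _ _)

theorem inH_kmap {H : Subgroup (Module.End F V)ˣ} (hM : ContainsM K H) {φ : V →ₗ[K] K} {s : V}
    (h : φ s = 0) : InH H (kmap φ s) := ⟨kmap_sq h, kroot_mem hM h⟩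

/-- Transitivity on nonzero vectors, for `K`-dimension at least two. -/
theorem exists_mem_apply_eq {H : Subgroup (Module.End F V)ˣ} (hM : ContainsM K H)
    (hm : ∀ w : V, ∃ z, z ∉ Submodule.span K {w}) {w w' : V} (hw : w ≠ 0) (hw' : w' ≠ 0) :
    ∃ g ∈ H, g.1 w = w' ∧ (∀ (c : K) (v : V), g.1 (c • v) = c • g.1 v) ∧
      (∀ (c : K) (v : V), g⁻¹.1 (c • v) = c • g⁻¹.1 v) := by
  -- independent case
  have key : ∀ a b : V, a ≠ 0 → b ∉ Submodule.span K {a} → ∃ g ∈ H, g.1 a = b ∧
      (∀ (c : K) (v : V), g.1 (c • v) = c • g.1 v) ∧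
      (∀ (c : K) (v : V), g⁻¹.1 (c • v) = c • g⁻¹.1 v) := by
    intro a b ha hb
    -- functional with value 1 on both a and b
    have hab : a - b ≠ 0 := by
      intro h
      apply hb
      rw [sub_eq_zero] at h
      rw [← h]
      exact Submodule.mem_span_singleton_self a
    have ha' : a ∉ Submodule.span K {b - a} := by
      intro hmem
      obtain ⟨c, hc⟩ := Submodule.mem_span_singleton.mp hmem
      apply hb
      have hc1 : c ≠ 0 := by
        rintro rfl
        apply ha
        simpa using hc.symm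
      have : b = (c⁻¹ + 1) • a := by
        rw [add_smul, one_smul, ← hc, smul_smul, inv_mul_cancel₀ hc1, one_smul]
        rw [hc]
        abel
      rw [this]
      exact Submodule.smul_mem _ _ (Submodule.mem_span_singleton_self a)
    obtain ⟨φ, hφ, hφa⟩ := exists_functional ha'
    have h0 : φ (b - a) = 0 := hφ _ (Submodule.mem_span_singleton_self _)
    refine ⟨uni (kmap φ (b - a)) (kmap_sq h0), kroot_mem hM h0, ?_, ?_, ?_⟩
    · simp [hφa]
    · intro c v
      simp only [uni_apply, kmap_apply, map_smul, smul_eq_mul, smul_add, mul_smul]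
    · intro c v
      simp only [uni_inv_apply, kmap_apply, map_smul, smul_eq_mul, smul_sub, mul_smul]
  by_cases hww : w' ∈ Submodule.span K {w}
  · obtain ⟨z, hz⟩ := hm w
    have hz0 : z ≠ 0 := by
      rintro rfl
      exact hz (Submodule.zero_mem _)
    have hw'z : w' ∉ Submodule.span K {z} := by
      intro hmem
      obtain ⟨c, hc⟩ := Submodule.mem_span_singleton.mp hmem
      obtain ⟨d, hd⟩ := Submodule.mem_span_singleton.mp hww
      apply hz
      have hc0 : c ≠ 0 := by
        rintro rfl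
        apply hw'
        simpa using hc.symm
      have : z = (c⁻¹ * d) • w := by
        rw [mul_smul, hd, ← hc, smul_smul, inv_mul_cancel₀ hc0, one_smul]
      rw [this]
      exact Submodule.smul_mem _ _ (Submodule.mem_span_singleton_self w)
    obtain ⟨g₁, hg₁, h₁, h₁', h₁''⟩ := key w z hw hz
    obtain ⟨g₂, hg₂, h₂, h₂', h₂''⟩ := key z w' hz0 hw'z
    refine ⟨g₂ * g₁, H.mul_mem hg₂ hg₁, by simp [h₁, h₂], ?_, ?_⟩
    · intro c v
      simp [h₁', h₂']
    · intro c v
      simp [h₁'', h₂'', mul_inv_rev]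
  · exact key w w' hw hww

/-- An additive map preserving all `K`-lines is a scalar, in `K`-dimension at least two. -/
theorem scalar_of_lines (hm : ∀ w : V, ∃ z, z ∉ Submodule.span K {w}) (T : V →+ V)
    (hT : ∀ v, ∃ c : K, T v = c • v) : ∃ c : K, ∀ v, T v = c • v := by
  classical
  obtain ⟨v₀, hv₀⟩ : ∃ v₀ : V, v₀ ≠ 0 := by
    obtain ⟨z, hz⟩ := hm 0
    refine ⟨z, ?_⟩
    rintro rfl
    exact hz (Submodule.zero_mem _)
  -- two independent vectors have the same scalar
  have key : ∀ a b : V, a ≠ 0 → b ∉ Submodule.span K {a} → ∀ c d : K, T a = c • a → T b = d • b → c = d := by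
    intro a b ha hb c d hc hd
    obtain ⟨e, he⟩ := hT (a + b)
    rw [map_add, hc, hd, smul_add] at he
    -- (c - e) a = (e - d) b
    have h1 : (e - d) • b = (c - e) • a := by
      rw [sub_smul, sub_smul]
      have : c • a + d • b - (e • a + e • b) = 0 := by rw [he]; abel
      linear_combination (norm := abel) -this
    by_cases hed : e - d = 0
    · have hce : (c - e) • a = 0 := by rw [← h1, hed, zero_smul]
      have h2 : c - e = 0 := by
        rcases smul_eq_zero.mp hce with h | h
        · exact h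
        · exact absurd h ha
      have h3 : e = d := sub_eq_zero.mp hed
      have h4 : c = e := sub_eq_zero.mp h2
      rw [h4, h3]
    · exfalso
      apply hb
      have : b = ((e - d)⁻¹ * (c - e)) • a := by
        rw [mul_smul, ← h1, smul_smul, inv_mul_cancel₀ hed, one_smul]
      rw [this]
      exact Submodule.smul_mem _ _ (Submodule.mem_span_singleton_self a)
  obtain ⟨c₀, hc₀⟩ := hT v₀
  refine ⟨c₀, fun v => ?_⟩
  by_cases hv : v = 0
  · subst hv
    simp
  obtain ⟨d, hd⟩ := hT v
  by_cases hvv : v ∈ Submodule.span K {v₀}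
  · obtain ⟨z, hz⟩ := hm v₀
    have hz0 : z ≠ 0 := by
      rintro rfl
      exact hz (Submodule.zero_mem _)
    obtain ⟨d', hd'⟩ := hT z
    have h1 := key v₀ z hv₀ hz c₀ d' hc₀ hd'
    have hvz : v ∉ Submodule.span K {z} := by
      intro hmem
      obtain ⟨c, hc⟩ := Submodule.mem_span_singleton.mp hmem
      obtain ⟨a, ha⟩ := Submodule.mem_span_singleton.mp hvv
      apply hz
      have hc0 : c ≠ 0 := by
        rintro rfl
        apply hv
        simpa using hc.symm
      have : z = (c⁻¹ * a) • v₀ := by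
        rw [mul_smul, ha, ← hc, smul_smul, inv_mul_cancel₀ hc0, one_smul]
      rw [this]
      exact Submodule.smul_mem _ _ (Submodule.mem_span_singleton_self v₀)
    have h2 := key z v hz0 hvz d' d hd' hd
    rw [hd, ← h2, ← h1]
  · have h1 := key v₀ v hv₀ hvv c₀ d hc₀ hd
    rw [hd, h1]

/-- If `h` maps lines into lines, it is semilinear. -/
theorem isSemi_of_lines (hm : ∀ w : V, ∃ z, z ∉ Submodule.span K {w}) (g : (Module.End F V)ˣ)
    (hl : ∀ (x : V) (c : K), ∃ c' : K, g.1 (c • x) = c' • g.1 x) : IsSemi K g := by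
  intro c
  let T : V →+ V :=
    { toFun := fun v => g.1 (c • g⁻¹.1 v)
      map_zero' := by simp
      map_add' := fun x y => by simp [smul_add] }
  obtain ⟨c', hc'⟩ := scalar_of_lines hm T (fun v => by
    obtain ⟨c', hc'⟩ := hl (g⁻¹.1 v) c
    refine ⟨c', ?_⟩
    change g.1 (c • g⁻¹.1 v) = _
    rw [hc', val_inv_apply])
  refine ⟨c', fun v => ?_⟩
  have := hc' (g.1 v)
  change g.1 (c • g⁻¹.1 (g.1 v)) = _ at this
  rwa [inv_val_apply] at this

end KStructure

end Cfsg.Agent.Lib.ExtField.Basic
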