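import Mathlib

/-!
# A bimodule lemma for `End_F(K)`
-/

set_option autoImplicit false
set_option linter.unusedSectionVars false

open Module TensorProduct

namespace Cfsg.Agent.Lib.ExtField.Bimod

section Trace

variable {F W : Type*} [Field F] [AddCommGroup W] [Module F W] [FiniteDimensional F W]

theorem trace_smulRight (β : W →ₗ[F] F) (α : W) : LinearMap.trace F W (β.smulRight α) = β α := by
  have h : β.smulRight α = dualTensorHom F W W (β ⊗ₜ[F] α) := by
    ext x
    simp [dualTensorHom_apply]
  rw [h, LinearMap.trace_eq_contract_apply, contractLeft_apply]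

theorem trace_mul_smulRight (T : Module.End F W) (β : W →ₗ[F] F) (α : W) :
    LinearMap.trace F W (T * β.smulRight α) = β (T α) := by
  have h : T * β.smulRight α = β.smulRight (T α) := by
    ext x
    simp
  rw [h, trace_smulRight]

/-- Every functional on `End W` is given by the trace pairing. -/
theorem exists_trace_pairing (Λ : Module.End F W →ₗ[F] F) :
    ∃ T : Module.End F W, ∀ D, Λ D = LinearMap.trace F W (T * D) := by
  let τ : Module.End F W →ₗ[F] (Module.End F W →ₗ[F] F) :=
    { toFun := fun T => (LinearMap.trace F W) ∘ₗ (LinearMap.mulLeft F T)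
      map_add' := fun a b => by ext D; simp [add_mul]
      map_smul' := fun c a => by ext D; simp }
  have hinj : Function.Injective τ := by
    rw [injective_iff_map_eq_zero]
    intro T hT
    ext α
    by_contra hne
    obtain ⟨β, hβ⟩ : ∃ β : W →ₗ[F] F, β (T α) ≠ 0 := by
      by_contra hall
      push Not at hall
      exact hne ((Module.forall_dual_apply_eq_zero_iff F _).mp hall)
    apply hβ
    have := congrArg (fun f : Module.End F W →ₗ[F] F => f (β.smulRight α)) hT
    simp only [τ, LinearMap.coe_mk, AddHom.coe_mk, LinearMap.coe_comp, Function.comp_apply,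
      LinearMap.mulLeft_apply, LinearMap.zero_apply] at this
    rwa [trace_mul_smulRight] at this
  have hdim : finrank F (Module.End F W) = finrank F (Module.End F W →ₗ[F] F) :=
    (Subspace.dual_finrank_eq).symm
  obtain ⟨T, hT⟩ := (LinearMap.injective_iff_surjective_of_finrank_eq_finrank hdim).mp hinj Λ
  refine ⟨T, fun D => ?_⟩
  rw [← hT]
  rfl

end Trace

variable {F K : Type*} [Field F] [Field K] [Algebra F K]

/-- A sub-bimodule of `End_F K` containing the identity and an element "antisymmetric" in `s₀, i₀`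
with `s₀ / i₀ ∉ F` is everything. -/
theorem bimod_eq_top [Finite F] [FiniteDimensional F K] (hr : (finrank F K).Prime)
    (Δ : Submodule F (Module.End F K))
    (hcl : ∀ (a e : K) (T : Module.End F K), T ∈ Δ →
      (LinearMap.mulLeft F a) * T * (LinearMap.mulLeft F e) ∈ Δ)
    (hid : (1 : Module.End F K) ∈ Δ)
    (κ : K →ₗ[F] F) (hκ : κ ≠ 0) (s₀ i₀ : K) (hi₀ : i₀ ≠ 0)
    (hθ : s₀ / i₀ ∉ (⊥ : Subalgebra F K))
    (hT : (κ ∘ₗ LinearMap.mulLeft F i₀).smulRight s₀ - (κ ∘ₗ LinearMap.mulLeft F s₀).smulRight i₀ ∈ Δ) :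
    Δ = ⊤ := by
  classical
  have : Finite K := Module.finite_of_finite F
  by_contra hne
  obtain ⟨Λ, hΛ, hle⟩ := Submodule.exists_le_ker_of_lt_top Δ (lt_top_iff_ne_top.mpr hne)
  obtain ⟨T, hTr⟩ := exists_trace_pairing Λ
  have hvan : ∀ D ∈ Δ, LinearMap.trace F K (T * D) = 0 := by
    intro D hD
    rw [← hTr]
    exact hle hD
  -- nondegeneracy of κ
  have hκnd : ∀ x : K, (∀ e : K, κ (e * x) = 0) → x = 0 := by
    intro x hx
    by_contra hx0
    apply hκ
    ext y
    have := hx (y * x⁻¹)
    rwa [mul_assoc, inv_mul_cancel₀ hx0, mul_one] at this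
  -- step 1
  have h1 : ∀ a : K, i₀ * T (a * s₀) = s₀ * T (a * i₀) := by
    intro a
    rw [← sub_eq_zero]
    apply hκnd
    intro e
    have h2 := hvan _ (hcl a e _ hT)
    have h3 : (LinearMap.mulLeft F a) * ((κ ∘ₗ LinearMap.mulLeft F i₀).smulRight s₀ -
        (κ ∘ₗ LinearMap.mulLeft F s₀).smulRight i₀) * (LinearMap.mulLeft F e) =
        (κ ∘ₗ LinearMap.mulLeft F (e * i₀)).smulRight (a * s₀) -
        (κ ∘ₗ LinearMap.mulLeft F (e * s₀)).smulRight (a * i₀) := by
      ext c
      simp only [Module.End.mul_apply, LinearMap.mulLeft_apply, LinearMap.sub_apply,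
        LinearMap.smulRight_apply, LinearMap.coe_comp, Function.comp_apply, mul_sub]
      have e1 : i₀ * (e * c) = (e * i₀) * c := by ring
      have e2 : s₀ * (e * c) = (e * s₀) * c := by ring
      rw [e1, e2, mul_smul_comm, mul_smul_comm]
    rw [h3, mul_sub, map_sub, trace_mul_smulRight, trace_mul_smulRight] at h2
    simp only [LinearMap.coe_comp, Function.comp_apply, LinearMap.mulLeft_apply] at h2
    rw [mul_sub, map_sub]
    have e1 : e * (i₀ * T (a * s₀)) = e * i₀ * T (a * s₀) := by ring
    have e2 : e * (s₀ * T (a * i₀)) = e * s₀ * T (a * i₀) := by ring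
    rw [e1, e2]
    exact h2
  -- step 2
  set θ := s₀ / i₀ with hθdef
  have h2 : ∀ b : K, T (θ * b) = θ * T b := by
    intro b
    have h3 := h1 (b * i₀⁻¹)
    have e1 : b * i₀⁻¹ * s₀ = θ * b := by
      rw [hθdef]; field_simp
    have e2 : b * i₀⁻¹ * i₀ = b := by
      field_simp
    rw [e1, e2] at h3
    have h4 : i₀ * T (θ * b) = i₀ * (θ * T b) := by
      rw [h3, hθdef]
      field_simp
    exact mul_left_cancel₀ hi₀ h4
  -- step 3
  let L' : Subalgebra F K :=
    { carrier := {c | ∀ b, T (c * b) = c * T b}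
      mul_mem' := by
        intro a c ha hc b
        rw [mul_assoc, ha, hc, mul_assoc]
      add_mem' := by
        intro a c ha hc b
        rw [add_mul, map_add, ha, hc, add_mul]
      algebraMap_mem' := by
        intro f b
        rw [← Algebra.smul_def, map_smul, Algebra.smul_def] }
  have hL' : L' = ⊤ := by
    rcases (Subalgebra.isSimpleOrder_of_finrank_prime F K hr).eq_bot_or_eq_top L' with h | h
    · exfalso
      apply hθ
      rw [← h]
      exact h2
    · exact h
  set c₀ := T 1 with hc₀
  have h3 : ∀ c, T c = c * c₀ := by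
    intro c
    have : c ∈ L' := by rw [hL']; trivial
    have h4 := this 1
    rwa [mul_one] at h4
  -- step 4
  have h4 : ∀ a : K, Algebra.trace F K (c₀ * a) = 0 := by
    intro a
    have h5 := hvan _ (hcl a 1 _ hid)
    have h6 : T * ((LinearMap.mulLeft F a) * 1 * (LinearMap.mulLeft F (1 : K))) =
        LinearMap.mulLeft F (c₀ * a) := by
      ext c
      simp only [Module.End.mul_apply, LinearMap.mulLeft_apply, Module.End.one_apply, one_mul]
      rw [h3]
      ring
    rw [h6] at h5
    exact h5
  have hc₀0 : c₀ = 0 := by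
    by_contra hne0
    obtain ⟨y, hy⟩ := Algebra.trace_surjective F K 1
    have := h4 (c₀⁻¹ * y)
    rw [← mul_assoc, mul_inv_cancel₀ hne0, one_mul, hy] at this
    exact one_ne_zero this
  -- conclusion
  apply hΛ
  ext D
  rw [hTr]
  have : T = 0 := by
    ext c
    rw [h3, hc₀0, mul_zero]
    rfl
  rw [this, zero_mul, map_zero]
  rfl

end Cfsg.Agent.Lib.ExtField.Bimod
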