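import Cfsg.Agent.Lib.ExtField.Comm
import Cfsg.Agent.Lib.ExtField.Bimod

/-!
# The case distinction
-/

set_option autoImplicit false
set_option linter.unusedSectionVars false

open Module Cfsg.Agent.Lib.ExtField.Basic Cfsg.Agent.Lib.ExtField.Spread
  Cfsg.Agent.Lib.ExtField.MaxPair Cfsg.Agent.Lib.ExtField.Comm Cfsg.Agent.Lib.ExtField.Bimod

namespace Cfsg.Agent.Lib.ExtField.Cases

variable {F K V : Type*} [Field F] [Field K] [Algebra F K] [AddCommGroup V] [Module F V]
  [Module K V] [IsScalarTower F K V]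

variable {H : Subgroup (Module.End F V)ˣ} {w₁ : V} {h : (Module.End F V)ˣ}

theorem isSemi_mul {g g' : (Module.End F V)ˣ} (hg : IsSemi K g) (hg' : IsSemi K g') :
    IsSemi K (g * g') := by
  intro c
  obtain ⟨c₁, hc₁⟩ := hg' c
  obtain ⟨c₂, hc₂⟩ := hg c₁
  refine ⟨c₂, fun v => ?_⟩
  simp only [mul_val_apply]
  rw [hc₁, hc₂]

theorem exists_dat [Finite F] [FiniteDimensional F V] (hc : Cfg K H w₁ h) (hM : ContainsM K H) :
    ∃ (u u' : V) (φ₀ φ : V →ₗ[K] K) (ε : K →ₗ[F] F), Dat K H w₁ h u u' φ₀ φ ε := by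
  classical
  set P := kline F K w₁ with hP
  set R := imU P h with hR
  have hfr : finrank F R = finrank F P := finrank_imU P h
  obtain ⟨u, hu, huR⟩ : ∃ u, u ∈ P ∧ u ∉ R := by
    by_contra hall
    push Not at hall
    exact hc.ne (Submodule.eq_of_le_of_finrank_eq hall hfr.symm)
  obtain ⟨u', hu', hu'P⟩ : ∃ u', u' ∈ R ∧ u' ∉ P := by
    by_contra hall
    push Not at hall
    exact hc.ne (Submodule.eq_of_le_of_finrank_eq hall hfr).symm
  have h1 : h⁻¹.1 u ∉ Submodule.span K {w₁} := fun hmem => huR (mem_imU.mpr hmem)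
  obtain ⟨φ₀, hφ₀, hφ₀u⟩ := exists_functional h1
  have h2 : u' ∉ Submodule.span K {w₁} := hu'P
  obtain ⟨φ, hφ, hφu'⟩ := exists_functional h2
  obtain ⟨ε, hε⟩ := LinearMap.exists_leftInverse_of_injective (Algebra.linearMap F K)
    (LinearMap.ker_eq_bot.mpr (algebraMap F K).injective)
  exact ⟨u, u', φ₀, φ, ε, hc, hM, hu, huR, hu', hu'P,
    hφ₀ _ (Submodule.mem_span_singleton_self _), hφ₀u, hφ _ (Submodule.mem_span_singleton_self _),
    hφu', fun f => by
      have := congrArg (fun g : F →ₗ[F] F => g f) hε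
      simpa using this⟩

variable {u u' : V} {φ₀ φ : V →ₗ[K] K} {ε : K →ₗ[F] F}

/-- The case of large `K`-dimension. -/
theorem all_of_large [Finite F] [FiniteDimensional F V] [FiniteDimensional F K]
    (hd : Dat K H w₁ h u u' φ₀ φ ε) (hr : (finrank F K).Prime)
    (hm : ∀ w : V, ∃ z, z ∉ Submodule.span K {w}) {x : V}
    (hx : x ∉ Submodule.span K {w₁} ⊔ Submodule.span K {h⁻¹.1 u})
    (ψ : V →ₗ[F] F) (w : V) (hψ : ψ w = 0) : InH H (ψ.smulRight w) := by
  classical
  obtain ⟨i, hi, hi0⟩ := Submodule.exists_mem_ne_zero_of_ne_bot hd.cfg.meet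
  have hi' : h⁻¹.1 i ∈ kline F K w₁ := mem_imU.mp hi.2
  have hu1 : h⁻¹.1 u' ∈ kline F K w₁ := mem_imU.mp hd.hu'
  obtain ⟨a, ha⟩ := mem_kline.mp hi'
  obtain ⟨b, hb⟩ := mem_kline.mp hu1
  have ha0 : a ≠ 0 := by
    rintro rfl
    apply hi0
    have : h⁻¹.1 i = 0 := by rw [← ha, zero_smul]
    have h2 := congrArg h.1 this
    simpa using h2
  set c := b * a⁻¹ with hc
  have hci : c • h⁻¹.1 i = h⁻¹.1 u' := by
    rw [← ha, smul_smul, hc, mul_assoc, inv_mul_cancel₀ ha0, mul_one, hb]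
  obtain ⟨δ₁, hδ₁, hδ₁x⟩ := exists_functional hx
  let δ : V →ₗ[K] K := c • δ₁
  have hδw : δ w₁ = 0 := by
    simp [δ, hδ₁ _ (Submodule.mem_sup_left (Submodule.mem_span_singleton_self _))]
  have hδu : δ (h⁻¹.1 u) = 0 := by
    simp [δ, hδ₁ _ (Submodule.mem_sup_right (Submodule.mem_span_singleton_self _))]
  have hδx : δ x = c := by
    simp [δ, hδ₁x]
  have hd' : Dat K H w₁ h u u' (φ₀ + δ) φ ε :=
    ⟨hd.cfg, hd.hM, hd.hu, hd.huR, hd.hu', hd.hu'P, by simp [hd.hφ₀, hδw],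
      by simp [hd.hφ₀u, hδu], hd.hφ, hd.hφu', hd.hε⟩
  by_cases hne : ψf h φ₀ φ ε i = ρf h φ₀ φ ε i
  · by_cases hne' : ψf h (φ₀ + δ) φ ε i = ρf h (φ₀ + δ) φ ε i
    · exfalso
      -- `ρ` is the same for both
      have hδP : ∀ y ∈ kline F K w₁, δ (h⁻¹.1 y) = 0 := by
        intro y hy
        obtain ⟨f, hf⟩ := hd.cfg.quot hd.hM hr hd.hu hd.huR hy
        have h1 : δ (h⁻¹.1 (y - f • u)) = 0 := by
          have h2 := mem_imU.mp hf
          exact map_eq_zero_of_mem_kline hδw h2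
        rw [map_sub, map_sub, map_smul, LinearMap.map_smul_of_tower, hδu, smul_zero, sub_zero] at h1
        exact h1
      have hρ : ρf h (φ₀ + δ) φ ε i (h.1 x) = ρf h φ₀ φ ε i (h.1 x) := by
        rw [ρf_apply, ρf_apply, fV_apply, fV_apply, LinearMap.add_apply,
          hδP _ (smul_mem_kline hi.1 _), add_zero]
      have hψ' : ψf h (φ₀ + δ) φ ε i (h.1 x) = ψf h φ₀ φ ε i (h.1 x) + 1 := by
        rw [ψf_apply, ψf_apply, bmap_apply, bmap_apply, inv_val_apply, LinearMap.add_apply,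
          add_smul, hδx, hci, map_add, map_add, val_inv_apply, hd.πV_u']
      have h3 := congrArg (fun f : V →ₗ[F] F => f (h.1 x)) hne
      have h4 := congrArg (fun f : V →ₗ[F] F => f (h.1 x)) hne'
      rw [hψ', hρ, ← h3] at h4
      have h5 : (1 : F) = 0 := by linear_combination h4
      exact one_ne_zero h5
    · exact all_of_ne hd' hr hm hi hne' ψ w hψ
  · exact all_of_ne hd hr hm hi hne ψ w hψ

/-- The map `v ↦ T(φ v) • w₁`. -/
def zT (φ : V →ₗ[K] K) (w₁ : V) (T : Module.End F K) : Module.End F V where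
  toFun v := T (φ v) • w₁
  map_add' x y := by simp [add_smul]
  map_smul' f v := by
    simp only [LinearMap.map_smul_of_tower, map_smul, RingHom.id_apply]
    rw [smul_assoc]

theorem zT_apply (φ : V →ₗ[K] K) (w₁ : V) (T : Module.End F K) (v : V) :
    zT φ w₁ T v = T (φ v) • w₁ := rfl

theorem zT_mul {φ : V →ₗ[K] K} {w₁ : V} (hφ : φ w₁ = 0) (T T' : Module.End F K) :
    zT φ w₁ T * zT φ w₁ T' = 0 := by
  ext v
  simp [zT_apply, hφ]

/-- Commuting case for `F = 𝔽₂` and `[K:F] ≥ 3`: the duality argument. -/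
theorem all_of_dual [Finite F] [FiniteDimensional F V] [FiniteDimensional F K]
    (hd : Dat K H w₁ h u u' φ₀ φ ε) (hr : (finrank F K).Prime)
    (hm : ∀ w : V, ∃ z, z ∉ Submodule.span K {w}) (hF2 : ∀ f : F, f = 0 ∨ f = 1)
    (hcomm : ∀ j ∈ kline F K w₁ ⊓ imU (kline F K w₁) h, ψf h φ₀ φ ε j = ρf h φ₀ φ ε j)
    {s i : V} (hs : s ∈ kline F K w₁ ⊓ imU (kline F K w₁) h)
    (hi : i ∈ kline F K w₁ ⊓ imU (kline F K w₁) h) (hi0 : i ≠ 0)
    (hsi : ∀ f : F, s ≠ f • i)
    (ψ : V →ₗ[F] F) (w : V) (hψ : ψ w = 0) : InH H (ψ.smulRight w) := by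
  classical
  have hφw : φ w₁ = 0 := hd.hφ
  let Δ : Submodule F (Module.End F K) :=
    { carrier := {T | InH H (zT φ w₁ T)}
      add_mem' := by
        intro T T' hT hT'
        refine (InH.add hT hT' (zT_mul hφw _ _) (zT_mul hφw _ _)).of_eq ?_
        ext v
        simp [zT_apply, add_smul]
      zero_mem' := by
        refine (InH.zero H).of_eq ?_
        ext v
        simp [zT_apply]
      smul_mem' := by
        intro f T hT
        rcases hF2 f with rfl | rfl
        · refine (InH.zero H).of_eq ?_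
          ext v
          simp [zT_apply]
        · simpa using hT }
  have hmemΔ : ∀ T, T ∈ Δ ↔ InH H (zT φ w₁ T) := fun T => Iff.rfl
  -- a dual vector to `w₁`
  have hw₁u' : w₁ ∉ Submodule.span K {u'} := by
    intro hmem
    obtain ⟨c, hc⟩ := Submodule.mem_span_singleton.mp hmem
    have hc0 : c ≠ 0 := by
      rintro rfl
      apply hd.cfg.w₁_ne
      rw [← hc, zero_smul]
    apply hd.hu'P
    rw [mem_kline]
    exact ⟨c⁻¹, by rw [← hc, smul_smul, inv_mul_cancel₀ hc0, one_smul]⟩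
  obtain ⟨χ, hχ, hχw⟩ := exists_functional hw₁u'
  have hχu' : χ u' = 0 := hχ _ (Submodule.mem_span_singleton_self _)
  -- closure under the bimodule action
  have hcl : ∀ (a e : K) (T : Module.End F K), T ∈ Δ →
      (LinearMap.mulLeft F a) * T * (LinearMap.mulLeft F e) ∈ Δ := by
    intro a e T hT
    by_cases ha : a = 0
    · subst ha
      have : (LinearMap.mulLeft F (0 : K)) * T * (LinearMap.mulLeft F e) = 0 := by
        ext c
        simp
      rw [this]
      exact Δ.zero_mem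
    by_cases he : e = 0
    · subst he
      have : (LinearMap.mulLeft F a) * T * (LinearMap.mulLeft F (0 : K)) = 0 := by
        ext c
        simp
      rw [this]
      exact Δ.zero_mem
    let A : Kˣ := Units.mk0 a ha
    let E : Kˣ := (Units.mk0 e he)⁻¹
    let g : (Module.End F V)ˣ := dilHom χ w₁ hχw A * dilHom φ u' hd.hφu' E
    have hgs : IsSemi K g := isSemi_mul (dilHom_semi _ _) (dilHom_semi _ _)
    have hgis : IsSemi K g⁻¹ := by
      rw [mul_inv_rev, ← map_inv, ← map_inv]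
      exact isSemi_mul (dilHom_semi _ _) (dilHom_semi _ _)
    have hgH : g ∈ H := by
      refine hd.hM g hgs hgis ?_
      rcases hF2 (LinearMap.det g.1) with h0 | h1
      · exact absurd h0 (LinearMap.isUnit_det _ (Units.isUnit _)).ne_zero
      · exact h1
    have hg₁ : ∀ c : K, g.1 (c • w₁) = (a * c) • w₁ := by
      intro c
      simp only [g, mul_val_apply]
      rw [dilHom_apply, dilHom_apply]
      simp only [map_smul, hφw, smul_eq_mul, mul_zero, zero_smul, add_zero, hχw, mul_one]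
      rw [← add_smul]
      congr 1
      simp only [A, Units.val_mk0]
      ring
    have hg₂ : ∀ v, φ (g⁻¹.1 v) = e * φ v := by
      intro v
      simp only [g, mul_inv_rev, mul_val_apply]
      rw [dilHom_inv_apply, dilHom_inv_apply]
      simp only [map_add, map_smul, hφw, smul_eq_mul, mul_zero, add_zero, hd.hφu', mul_one]
      simp only [E, inv_inv, Units.val_mk0]
      ring
    have hconj := hT.conj hgH
    rw [hmemΔ]
    refine hconj.of_eq ?_
    ext v
    simp only [Module.End.mul_apply, zT_apply, LinearMap.mulLeft_apply]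
    rw [hg₂, hg₁]
  have hid : (1 : Module.End F K) ∈ Δ := by
    rw [hmemΔ]
    refine (inH_kmap hd.hM hφw).of_eq ?_
    ext v
    simp [zT_apply]
  -- the functional κ
  let κ : K →ₗ[F] F :=
    (fV h φ₀ ε) ∘ₗ ((LinearMap.toSpanSingleton K V w₁).restrictScalars F)
  have hκ_apply : ∀ c, κ c = fV h φ₀ ε (c • w₁) := fun c => rfl
  obtain ⟨c_u, hc_u⟩ := mem_kline.mp hd.hu
  have hκ1 : κ c_u = 1 := by
    rw [hκ_apply, hc_u, hd.fV_u]
  have hκ0 : κ ≠ 0 := by
    intro h0
    rw [h0] at hκ1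
    simp at hκ1
  obtain ⟨s₀, hs₀⟩ := mem_kline.mp hs.1
  obtain ⟨i₀, hi₀⟩ := mem_kline.mp hi.1
  have hi₀0 : i₀ ≠ 0 := by
    rintro rfl
    apply hi0
    rw [← hi₀, zero_smul]
  have hθ : s₀ / i₀ ∉ (⊥ : Subalgebra F K) := by
    intro hbot
    obtain ⟨f, hf⟩ := Algebra.mem_bot.mp hbot
    apply hsi f
    have : s₀ = algebraMap F K f * i₀ := by
      rw [hf]
      field_simp
    rw [← hs₀, ← hi₀, this, mul_smul, algebraMap_smul]
  have hT : (κ ∘ₗ LinearMap.mulLeft F i₀).smulRight s₀ -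
      (κ ∘ₗ LinearMap.mulLeft F s₀).smulRight i₀ ∈ Δ := by
    rw [hmemΔ]
    refine (hd.inH_Zf hr hs.1 hi).of_eq ?_
    ext v
    rw [Zf_apply, hd.fV_R hs.2, zero_smul, add_zero, hcomm i hi, ρf_apply, ρf_apply, zT_apply]
    simp only [LinearMap.sub_apply, LinearMap.smulRight_apply, LinearMap.coe_comp,
      Function.comp_apply, LinearMap.mulLeft_apply]
    rw [hκ_apply, hκ_apply, sub_smul, ← hi₀, ← hs₀, smul_smul, smul_smul, mul_comm i₀, mul_comm s₀,
      smul_assoc, smul_assoc]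
  have htop := bimod_eq_top hr Δ hcl hid κ hκ0 s₀ i₀ hi₀0 hθ hT
  have hT₁ : κ.smulRight (1 : K) ∈ Δ := by
    rw [htop]
    trivial
  rw [hmemΔ] at hT₁
  have h₀ : InH H ((κ ∘ₗ φ.restrictScalars F).smulRight w₁) := by
    refine hT₁.of_eq ?_
    ext v
    simp [zT_apply]
  refine inH_all_of_type1 hd.hM hm hr.two_le ?_ hd.cfg.w₁_ne ?_ h₀ ψ w hψ
  · intro h0
    have h1 := congrArg (fun f : V →ₗ[F] F => f (c_u • u')) h0
    simp [hd.hφu', hκ1] at h1
  · intro c
    simp [hφw]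

end Cfsg.Agent.Lib.ExtField.Cases
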