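import Cfsg.Agent.Lib.ExtField.MaxPair

/-!
# Commutators of root elements for a pair with maximal intersection
-/

set_option autoImplicit false
set_option linter.unusedSectionVars false

open Module Cfsg.Agent.Lib.ExtField.Basic Cfsg.Agent.Lib.ExtField.Spread
  Cfsg.Agent.Lib.ExtField.MaxPair

namespace Cfsg.Agent.Lib.ExtField.Comm

variable {F K V : Type*} [Field F] [Field K] [Algebra F K] [AddCommGroup V] [Module F V]
  [Module K V] [IsScalarTower F K V]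

variable {H : Subgroup (Module.End F V)ˣ} {w₁ : V} {h : (Module.End F V)ˣ}

/-- The symmetric configuration. -/
theorem cfg_symm [Finite F] [FiniteDimensional F V] (hc : Cfg K H w₁ h) : Cfg K H w₁ h⁻¹ := by
  classical
  set P := kline F K w₁ with hP
  -- the map by h
  have hmap : ∀ x, x ∈ P ⊓ imU P h⁻¹ ↔ h.1 x ∈ P ⊓ imU P h := by
    intro x
    rw [Submodule.mem_inf, Submodule.mem_inf, mem_imU, mem_imU]
    simp [inv_inv, and_comm]
  have hfr : finrank F ↥(P ⊓ imU P h⁻¹) = finrank F ↥(P ⊓ imU P h) := by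
    have heq : imU (P ⊓ imU P h⁻¹) h = P ⊓ imU P h := by
      ext x
      rw [mem_imU, hmap]
      simp
    rw [← heq, finrank_imU]
  refine ⟨hc.w₁_ne, H.inv_mem hc.h_mem, ?_, ?_, ?_⟩
  · intro heq
    apply hc.ne
    ext x
    rw [mem_imU]
    constructor
    · intro hx
      have : h⁻¹.1 x ∈ imU P h⁻¹ := apply_mem_imU hx
      rwa [← heq] at this
    · intro hx
      rw [heq] at hx
      have := mem_imU.mp hx
      simpa using this
  · intro h0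
    apply hc.meet
    rw [eq_bot_iff]
    intro x hx
    have : h⁻¹.1 x ∈ P ⊓ imU P h⁻¹ := by
      rw [hmap]
      simpa using hx
    rw [h0, Submodule.mem_bot] at this
    have h2 := congrArg h.1 this
    simpa using h2
  · intro g hg hne hmeet
    rw [hfr]
    exact hc.max g hg hne hmeet

/-- `R = I + F u'`. -/
theorem cfg_quot' [Finite F] [FiniteDimensional F V] [FiniteDimensional F K]
    (hc : Cfg K H w₁ h) (hM : ContainsM K H)
    (hr : (finrank F K).Prime) {u' : V} (hu' : u' ∈ imU (kline F K w₁) h)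
    (hu'P : u' ∉ kline F K w₁) {r : V} (hrR : r ∈ imU (kline F K w₁) h) :
    ∃ f : F, r - f • u' ∈ kline F K w₁ := by
  have hs := cfg_symm hc
  have h1 : h⁻¹.1 u' ∈ kline F K w₁ := mem_imU.mp hu'
  have h2 : h⁻¹.1 u' ∉ imU (kline F K w₁) h⁻¹ := by
    intro hmem
    apply hu'P
    have := mem_imU.mp hmem
    simpa using this
  have h3 : h⁻¹.1 r ∈ kline F K w₁ := mem_imU.mp hrR
  obtain ⟨f, hf⟩ := hs.quot hM hr h1 h2 h3
  refine ⟨f, ?_⟩
  have := mem_imU.mp hf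
  simpa using this

/-- The configuration with all its auxiliary data. -/
structure Dat (K : Type*) [Field K] [Algebra F K] [Module K V] [IsScalarTower F K V]
    (H : Subgroup (Module.End F V)ˣ) (w₁ : V) (h : (Module.End F V)ˣ)
    (u u' : V) (φ₀ φ : V →ₗ[K] K) (ε : K →ₗ[F] F) : Prop where
  cfg : Cfg K H w₁ h
  hM : ContainsM K H
  hu : u ∈ kline F K w₁
  huR : u ∉ imU (kline F K w₁) h
  hu' : u' ∈ imU (kline F K w₁) h
  hu'P : u' ∉ kline F K w₁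
  hφ₀ : φ₀ w₁ = 0
  hφ₀u : φ₀ (h⁻¹.1 u) = 1
  hφ : φ w₁ = 0
  hφu' : φ u' = 1
  hε : ∀ f, ε (algebraMap F K f) = f

variable {u u' : V} {φ₀ φ : V →ₗ[K] K} {ε : K →ₗ[F] F}

/-- `F`-valued version of `v ↦ φ₀ (h⁻¹ v)`. -/
def fV (h : (Module.End F V)ˣ) (φ₀ : V →ₗ[K] K) (ε : K →ₗ[F] F) : V →ₗ[F] F :=
  ε ∘ₗ (φ₀.restrictScalars F) ∘ₗ (h⁻¹.1 : V →ₗ[F] V)

theorem fV_apply (v : V) : fV h φ₀ ε v = ε (φ₀ (h⁻¹.1 v)) := rfl

/-- `F`-valued version of `φ`. -/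
def πV (φ : V →ₗ[K] K) (ε : K →ₗ[F] F) : V →ₗ[F] F := ε ∘ₗ (φ.restrictScalars F)

theorem πV_apply (v : V) : πV φ ε v = ε (φ v) := rfl

section

variable [Finite F] [FiniteDimensional F V] [FiniteDimensional F K]

variable (hd : Dat K H w₁ h u u' φ₀ φ ε) (hr : (finrank F K).Prime)
include hd

theorem Dat.fV_spec (hr : (finrank F K).Prime) {v : V} (hv : v ∈ kline F K w₁) :
    φ₀ (h⁻¹.1 v) = algebraMap F K (fV h φ₀ ε v) := by
  have h1 : φ₀ (h⁻¹.1 v) ∈ (⊥ : Subalgebra F K) :=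
    hd.cfg.mem_bot hd.hM hr hd.hφ₀ hd.hu hd.huR hd.hφ₀u (by simpa using hv)
  obtain ⟨f, hf⟩ := Algebra.mem_bot.mp h1
  rw [fV_apply, ← hf, hd.hε]

theorem Dat.fV_u : fV h φ₀ ε u = 1 := by
  have h1 : (1 : K) = algebraMap F K 1 := (map_one _).symm
  rw [fV_apply, hd.hφ₀u, h1, hd.hε]

theorem Dat.fV_R {v : V} (hv : v ∈ imU (kline F K w₁) h) : fV h φ₀ ε v = 0 := by
  rw [fV_apply, map_eq_zero_of_mem_kline hd.hφ₀ (mem_imU.mp hv), map_zero]

theorem Dat.πV_spec (hr : (finrank F K).Prime) {r : V} (hrR : r ∈ imU (kline F K w₁) h) :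
    φ r = algebraMap F K (πV φ ε r) := by
  obtain ⟨f, hf⟩ := cfg_quot' hd.cfg hd.hM hr hd.hu' hd.hu'P hrR
  have h1 : φ (r - f • u') = 0 := map_eq_zero_of_mem_kline hd.hφ hf
  have h2 : φ r = algebraMap F K f := by
    rw [map_sub, LinearMap.map_smul_of_tower, hd.hφu', sub_eq_zero] at h1
    rw [h1, Algebra.algebraMap_eq_smul_one]
  rw [πV_apply, h2, hd.hε]

theorem Dat.πV_P {v : V} (hv : v ∈ kline F K w₁) : πV φ ε v = 0 := by
  rw [πV_apply, map_eq_zero_of_mem_kline hd.hφ hv, map_zero]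

theorem Dat.πV_u' : πV φ ε u' = 1 := by
  have h1 : (1 : K) = algebraMap F K 1 := (map_one _).symm
  rw [πV_apply, hd.hφu', h1, hd.hε]

theorem Dat.bmap_R {j v : V} (hv : v ∈ imU (kline F K w₁) h) : bmap (F := F) h φ₀ j v = 0 := by
  rw [bmap_apply, map_eq_zero_of_mem_kline hd.hφ₀ (mem_imU.mp hv)]
  simp

theorem Dat.bmap_mem {j : V} (hj : j ∈ imU (kline F K w₁) h) (v : V) :
    bmap (F := F) h φ₀ j v ∈ imU (kline F K w₁) h := by
  rw [bmap_apply]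
  exact apply_mem_imU (smul_mem_kline (mem_imU.mp hj) _)

theorem Dat.bmap_P (hr : (finrank F K).Prime) (j : V) {v : V} (hv : v ∈ kline F K w₁) :
    bmap (F := F) h φ₀ j v = fV h φ₀ ε v • j := by
  rw [bmap_apply, hd.fV_spec hr hv, algebraMap_smul, map_smul]
  simp

end

theorem bmap_smul (j : V) (g : F) : bmap (F := F) h φ₀ (g • j) = g • bmap (F := F) h φ₀ j := by
  ext v
  simp only [bmap_apply, LinearMap.smul_apply, map_smul]
  rw [smul_comm, map_smul]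

theorem kmap_smul (s : V) (g : F) : kmap (F := F) φ (g • s) = g • kmap (F := F) φ s := by
  ext v
  simp only [kmap_apply, LinearMap.smul_apply]
  rw [smul_comm]

/-- The functional `ψ_j`. -/
def ψf (h : (Module.End F V)ˣ) (φ₀ φ : V →ₗ[K] K) (ε : K →ₗ[F] F) (j : V) : V →ₗ[F] F :=
  πV φ ε ∘ₗ (bmap (F := F) h φ₀ j : V →ₗ[F] V)

theorem ψf_apply (j v : V) : ψf h φ₀ φ ε j v = πV φ ε (bmap (F := F) h φ₀ j v) := rfl

/-- The functional `ρ_s`. -/
def ρf (h : (Module.End F V)ˣ) (φ₀ φ : V →ₗ[K] K) (ε : K →ₗ[F] F) (s : V) : V →ₗ[F] F :=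
  fV h φ₀ ε ∘ₗ (kmap (F := F) φ s : V →ₗ[F] V)

theorem ρf_apply (s v : V) : ρf h φ₀ φ ε s v = fV h φ₀ ε (φ v • s) := rfl

/-- The commutator of the root elements. -/
def Zf (h : (Module.End F V)ˣ) (φ₀ φ : V →ₗ[K] K) (ε : K →ₗ[F] F) (s j : V) : Module.End F V :=
  (ψf h φ₀ φ ε j).smulRight s - (ρf h φ₀ φ ε s).smulRight j +
    (fV h φ₀ ε s) • (ψf h φ₀ φ ε j).smulRight j

theorem Zf_apply (s j v : V) : Zf h φ₀ φ ε s j v =
    ψf h φ₀ φ ε j v • s - ρf h φ₀ φ ε s v • j + (fV h φ₀ ε s) • ψf h φ₀ φ ε j v • j := rfl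

section

variable [Finite F] [FiniteDimensional F V] [FiniteDimensional F K]

variable (hd : Dat K H w₁ h u u' φ₀ φ ε) (hr : (finrank F K).Prime)
include hd

theorem Dat.ψf_P (hr : (finrank F K).Prime) {j v : V} (hj : j ∈ kline F K w₁ ⊓ imU (kline F K w₁) h)
    (hv : v ∈ kline F K w₁) : ψf h φ₀ φ ε j v = 0 := by
  rw [ψf_apply, hd.bmap_P hr j hv, map_smul, hd.πV_P hj.1]
  simp

theorem Dat.ρf_P {s v : V} (hv : v ∈ kline F K w₁) : ρf h φ₀ φ ε s v = 0 := by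
  rw [ρf_apply, map_eq_zero_of_mem_kline hd.hφ hv]
  simp

theorem Dat.Zf_P (hr : (finrank F K).Prime) {s j v : V}
    (hj : j ∈ kline F K w₁ ⊓ imU (kline F K w₁) h)
    (hv : v ∈ kline F K w₁) : Zf h φ₀ φ ε s j v = 0 := by
  rw [Zf_apply, hd.ψf_P hr hj hv, hd.ρf_P hv]
  simp

theorem Dat.Zf_mem {s j : V} (hs : s ∈ kline F K w₁) (hj : j ∈ kline F K w₁ ⊓ imU (kline F K w₁) h)
    (v : V) : Zf h φ₀ φ ε s j v ∈ kline F K w₁ := by
  rw [Zf_apply]
  have hj' := hj.1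
  exact Submodule.add_mem _ (Submodule.sub_mem _ (Submodule.smul_mem _ _ hs)
    (Submodule.smul_mem _ _ hj')) (Submodule.smul_mem _ _ (Submodule.smul_mem _ _ hj'))

theorem Dat.Zf_mul (hr : (finrank F K).Prime) {s j s' j' : V} (hs' : s' ∈ kline F K w₁)
    (hj : j ∈ kline F K w₁ ⊓ imU (kline F K w₁) h)
    (hj' : j' ∈ kline F K w₁ ⊓ imU (kline F K w₁) h) :
    Zf h φ₀ φ ε s j * Zf h φ₀ φ ε s' j' = 0 := by
  ext v
  exact hd.Zf_P hr hj (hd.Zf_mem hs' hj' v)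

/-- The commutator of `1 + A_s` and `1 + B_j` is `1 + Z(s,j)`. -/
theorem Dat.inH_Zf (hr : (finrank F K).Prime) {s j : V} (hs : s ∈ kline F K w₁)
    (hj : j ∈ kline F K w₁ ⊓ imU (kline F K w₁) h) : InH H (Zf h φ₀ φ ε s j) := by
  have hA : InH H (kmap (F := F) φ s) :=
    inH_kmap hd.hM (map_eq_zero_of_mem_kline hd.hφ hs)
  have hB : InH H (bmap (F := F) h φ₀ j) :=
    inH_bmap hd.hM hd.cfg.h_mem (map_eq_zero_of_mem_kline hd.hφ₀ (mem_imU.mp hj.2))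
  have hjK : φ j = 0 := map_eq_zero_of_mem_kline hd.hφ hj.1
  have hAB : ∀ v, kmap (F := F) φ s (bmap (F := F) h φ₀ j v) = ψf h φ₀ φ ε j v • s := by
    intro v
    rw [kmap_apply, hd.πV_spec hr (hd.bmap_mem hj.2 v), algebraMap_smul, ψf_apply]
  have hBA : ∀ v, bmap (F := F) h φ₀ j (kmap (F := F) φ s v) = ρf h φ₀ φ ε s v • j := by
    intro v
    rw [kmap_apply, hd.bmap_P hr j (smul_mem_kline hs _), ρf_apply]
  refine inH_of_comm hA hB ?_ (hd.Zf_mul hr hs hj hj)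
  ext v
  simp only [LinearMap.add_apply, LinearMap.sub_apply, Module.End.mul_apply]
  rw [hAB v, hBA v, Zf_apply]
  -- evaluate the triple products
  have h1 : bmap (F := F) h φ₀ j (ψf h φ₀ φ ε j v • s) = ψf h φ₀ φ ε j v • fV h φ₀ ε s • j := by
    rw [map_smul, hd.bmap_P hr j hs]
  have h2 : kmap (F := F) φ s (ρf h φ₀ φ ε s v • j) = 0 := by
    rw [map_smul, kmap_apply, hjK]
    simp
  have h3 : kmap (F := F) φ s (ψf h φ₀ φ ε j v • fV h φ₀ ε s • j) = 0 := by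
    rw [map_smul, map_smul, kmap_apply, hjK]
    simp
  rw [h1, h2, h3, sub_zero, add_zero, smul_comm]

/-- The element `Y = ψ_i ⊗ i`, when `F` has at least three elements. -/
theorem Dat.inH_ψf_smulRight (hr : (finrank F K).Prime) {g : F} (hg : g ≠ 0) (hg1 : g ≠ 1) {i : V}
    (hi : i ∈ kline F K w₁ ⊓ imU (kline F K w₁) h) :
    InH H ((ψf h φ₀ φ ε i).smulRight i) := by
  have h1g : 1 - g ≠ 0 := sub_ne_zero.mpr (Ne.symm hg1)
  set a := (1 - g)⁻¹ with ha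
  set s' := a • u with hs'
  have hs'P : s' ∈ kline F K w₁ := Submodule.smul_mem _ _ hd.hu
  have hs₂P : g⁻¹ • s' ∈ kline F K w₁ := Submodule.smul_mem _ _ hs'P
  have hgi : g • i ∈ kline F K w₁ ⊓ imU (kline F K w₁) h := Submodule.smul_mem _ _ hi
  have h1 := hd.inH_Zf hr hs'P hi
  have h2 := hd.inH_Zf hr hs₂P hgi
  have h3 := h1.sub h2 (hd.Zf_mul hr hs₂P hi hgi) (hd.Zf_mul hr hs'P hgi hi)
  refine h3.of_eq ?_
  ext v
  have e1 : fV h φ₀ ε s' = a := by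
    rw [hs', map_smul, hd.fV_u, smul_eq_mul, mul_one]
  have e2 : fV h φ₀ ε (g⁻¹ • s') = g⁻¹ * a := by
    rw [map_smul, e1, smul_eq_mul]
  have e3 : ψf h φ₀ φ ε (g • i) v = g * ψf h φ₀ φ ε i v := by
    rw [ψf_apply, ψf_apply, bmap_smul, LinearMap.smul_apply, map_smul, smul_eq_mul]
  have e4 : ρf h φ₀ φ ε (g⁻¹ • s') v = g⁻¹ * ρf h φ₀ φ ε s' v := by
    rw [ρf_apply, ρf_apply, smul_comm, map_smul, smul_eq_mul]
  simp only [LinearMap.sub_apply, LinearMap.smulRight_apply]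
  rw [Zf_apply, Zf_apply, e1, e2, e3, e4]
  set X := ψf h φ₀ φ ε i v
  set Y := ρf h φ₀ φ ε s' v
  have hag : a * (1 - g) = 1 := inv_mul_cancel₀ h1g
  have e5 : (g * X) • g⁻¹ • s' = X • s' := by
    rw [smul_smul]
    congr 1
    field_simp
  have e6 : (g⁻¹ * Y) • g • i = Y • i := by
    rw [smul_smul]
    congr 1
    field_simp
  have e7 : (g⁻¹ * a) • (g * X) • g • i = (g * (a * X)) • i := by
    rw [smul_smul, smul_smul]
    congr 1
    field_simp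
  have e8 : a • X • i = (a * X) • i := by rw [smul_smul]
  rw [e5, e6, e7, e8]
  have e9 : X • i = (a * X) • i - (g * (a * X)) • i := by
    rw [← sub_smul]
    congr 1
    linear_combination (-X) * hag
  rw [e9]
  abel

/-- `ψ_i` vanishes on `K i`. -/
theorem Dat.ψf_smul (hr : (finrank F K).Prime) {i : V}
    (hi : i ∈ kline F K w₁ ⊓ imU (kline F K w₁) h) (c : K) : ψf h φ₀ φ ε i (c • i) = 0 :=
  hd.ψf_P hr hi (smul_mem_kline hi.1 c)

/-- `ρ_i` vanishes on `K i`. -/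
theorem Dat.ρf_smul {i : V}
    (hi : i ∈ kline F K w₁ ⊓ imU (kline F K w₁) h) (c : K) : ρf h φ₀ φ ε i (c • i) = 0 :=
  hd.ρf_P (smul_mem_kline hi.1 c)

/-- `ψ_i` is non-zero. -/
theorem Dat.ψf_ne_zero {i : V} (hi : i ∈ kline F K w₁ ⊓ imU (kline F K w₁) h) (hi0 : i ≠ 0) :
    ψf h φ₀ φ ε i ≠ 0 := by
  intro h0
  have hi' : h⁻¹.1 i ∈ kline F K w₁ := mem_imU.mp hi.2
  have hu1 : h⁻¹.1 u' ∈ kline F K w₁ := mem_imU.mp hd.hu'
  obtain ⟨a, ha⟩ := mem_kline.mp hi'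
  obtain ⟨b, hb⟩ := mem_kline.mp hu1
  have ha0 : a ≠ 0 := by
    rintro rfl
    apply hi0
    have : h⁻¹.1 i = 0 := by rw [← ha, zero_smul]
    have h2 := congrArg h.1 this
    simpa using h2
  -- choose v
  set c := b * a⁻¹ with hc
  set v := h.1 (c • h⁻¹.1 u) with hv
  have h1 : bmap (F := F) h φ₀ i v = u' := by
    have e : h⁻¹.1 v = c • h⁻¹.1 u := by rw [hv, inv_val_apply]
    rw [bmap_apply, e, LinearMap.map_smul φ₀, hd.hφ₀u, smul_eq_mul, mul_one, ← ha, smul_smul,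
      hc, mul_assoc, inv_mul_cancel₀ ha0, mul_one, hb]
    simp
  have h2 : ψf h φ₀ φ ε i v = 1 := by
    rw [ψf_apply, h1, hd.πV_u']
  rw [h0] at h2
  simp at h2

/-- If `ψ_j ≠ ρ_j` we have a rank one element. -/
theorem Dat.inH_sub_smulRight (hr : (finrank F K).Prime) {j : V}
    (hj : j ∈ kline F K w₁ ⊓ imU (kline F K w₁) h) :
    InH H ((ψf h φ₀ φ ε j - ρf h φ₀ φ ε j).smulRight j) := by
  refine (hd.inH_Zf hr hj.1 hj).of_eq ?_
  ext v
  rw [Zf_apply, hd.fV_R hj.2]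
  simp [sub_smul]

end

/-- The general result for at least three elements in `F`. -/
theorem all_of_three [Finite F] [FiniteDimensional F V] [FiniteDimensional F K]
    (hd : Dat K H w₁ h u u' φ₀ φ ε) (hr : (finrank F K).Prime)
    (hm : ∀ w : V, ∃ z, z ∉ Submodule.span K {w}) {g : F} (hg : g ≠ 0) (hg1 : g ≠ 1)
    (ψ : V →ₗ[F] F) (w : V) (hψ : ψ w = 0) : InH H (ψ.smulRight w) := by
  obtain ⟨i, hi, hi0⟩ := Submodule.exists_mem_ne_zero_of_ne_bot hd.cfg.meet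
  exact inH_all_of_type1 hd.hM hm hr.two_le (hd.ψf_ne_zero hi hi0) hi0 (hd.ψf_smul hr hi)
    (hd.inH_ψf_smulRight hr hg hg1 hi) ψ w hψ

/-- Non commuting case. -/
theorem all_of_ne [Finite F] [FiniteDimensional F V] [FiniteDimensional F K]
    (hd : Dat K H w₁ h u u' φ₀ φ ε) (hr : (finrank F K).Prime)
    (hm : ∀ w : V, ∃ z, z ∉ Submodule.span K {w}) {j : V}
    (hj : j ∈ kline F K w₁ ⊓ imU (kline F K w₁) h) (hne : ψf h φ₀ φ ε j ≠ ρf h φ₀ φ ε j)
    (ψ : V →ₗ[F] F) (w : V) (hψ : ψ w = 0) : InH H (ψ.smulRight w) := by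
  have hj0 : j ≠ 0 := by
    rintro rfl
    apply hne
    ext v
    simp [ψf_apply, ρf_apply, bmap_apply, fV_apply]
  refine inH_all_of_type1 hd.hM hm hr.two_le (sub_ne_zero.mpr hne) hj0 (fun c => ?_)
    (hd.inH_sub_smulRight hr hj) ψ w hψ
  rw [LinearMap.sub_apply, hd.ψf_smul hr hj, hd.ρf_smul hj, sub_zero]

end Cfsg.Agent.Lib.ExtField.Comm
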