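import Cfsg.Agent.Lib.ExtField.Cases

/-!
# The exceptional case `F = 𝔽₂`, `K = 𝔽₄`, `dim_K V = 2`
-/

set_option autoImplicit false
set_option linter.unusedSectionVars false
set_option linter.unusedSimpArgs false

open Module Cfsg.Agent.Lib.ExtField.Basic Cfsg.Agent.Lib.ExtField.Spread
  Cfsg.Agent.Lib.ExtField.MaxPair Cfsg.Agent.Lib.ExtField.Comm Cfsg.Agent.Lib.ExtField.Cases

namespace Cfsg.Agent.Lib.ExtField.Exc

variable {F K V : Type*} [Field F] [Field K] [Algebra F K] [AddCommGroup V] [Module F V]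
  [Module K V] [IsScalarTower F K V]

variable {H : Subgroup (Module.End F V)ˣ}

/-- Coordinates on a two-dimensional space over `𝔽₄`. -/
structure Coord (F K : Type*) {V : Type*} [Field F] [Field K] [Algebra F K] [AddCommGroup V]
    [Module F V] [Module K V] [IsScalarTower F K V] (i u' : V) (ω : K) (χ φ : V →ₗ[K] K) : Prop where
  hF2 : ∀ f : F, f = 0 ∨ f = 1
  hω : ω * ω = 1 + ω
  hK : ∀ c : K, ∃ α β : F, algebraMap F K α + algebraMap F K β * ω = c
  hχi : χ i = 1
  hχu : χ u' = 0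
  hφi : φ i = 0
  hφu : φ u' = 1
  hdec : ∀ v, χ v • i + φ v • u' = v

variable {i u' : V} {ω : K} {χ φ : V →ₗ[K] K}

theorem two_F (hF2 : ∀ f : F, f = 0 ∨ f = 1) : (1 : F) + 1 = 0 := by
  rcases hF2 (1 + 1) with h | h
  · exact h
  · exact absurd (by linear_combination h) (one_ne_zero (α := F))

theorem two_V (hF2 : ∀ f : F, f = 0 ∨ f = 1) (x : V) : x + x = 0 := by
  have h : ((1 : F) + 1) • x = 0 := by rw [two_F hF2, zero_smul]
  rwa [add_smul, one_smul] at h

theorem two_K (hF2 : ∀ f : F, f = 0 ∨ f = 1) (x : K) : x + x = 0 := by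
  have h : ((1 : F) + 1) • x = 0 := by rw [two_F hF2, zero_smul]
  rwa [add_smul, one_smul] at h

theorem z2 (hF2 : ∀ f : F, f = 0 ∨ f = 1) (x : V) : (2 : ℤ) • x = 0 := by
  rw [two_zsmul, two_V hF2]

theorem z3 (hF2 : ∀ f : F, f = 0 ∨ f = 1) (x : V) : (3 : ℤ) • x = x := by
  have : (3 : ℤ) • x = (x + x) + x := by abel
  rw [this, two_V hF2, zero_add]

theorem z4 (hF2 : ∀ f : F, f = 0 ∨ f = 1) (x : V) : (4 : ℤ) • x = 0 := by
  have : (4 : ℤ) • x = (x + x) + (x + x) := by abel
  simp [this, two_V hF2]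

theorem z5 (hF2 : ∀ f : F, f = 0 ∨ f = 1) (x : V) : (5 : ℤ) • x = x := by
  have : (5 : ℤ) • x = (x + x) + (x + x) + x := by abel
  simp [this, two_V hF2]

theorem z6 (hF2 : ∀ f : F, f = 0 ∨ f = 1) (x : V) : (6 : ℤ) • x = 0 := by
  have : (6 : ℤ) • x = (x + x) + (x + x) + (x + x) := by abel
  simp [this, two_V hF2]

theorem z7 (hF2 : ∀ f : F, f = 0 ∨ f = 1) (x : V) : (7 : ℤ) • x = x := by
  have : (7 : ℤ) • x = (x + x) + (x + x) + (x + x) + x := by abel
  simp [this, two_V hF2]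

theorem z8 (hF2 : ∀ f : F, f = 0 ∨ f = 1) (x : V) : (8 : ℤ) • x = 0 := by
  have : (8 : ℤ) • x = (x + x) + (x + x) + (x + x) + (x + x) := by abel
  simp [this, two_V hF2]

section

variable (hd : Coord F K i u' ω χ φ)
include hd

theorem Coord.ext4 {A B : Module.End F V} (h1 : A i = B i) (h2 : A (ω • i) = B (ω • i))
    (h3 : A u' = B u') (h4 : A (ω • u') = B (ω • u')) : A = B := by
  ext v
  rw [← hd.hdec v]
  obtain ⟨α, β, h₁⟩ := hd.hK (χ v)
  obtain ⟨γ, δ, h₂⟩ := hd.hK (φ v)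
  rw [← h₁, ← h₂]
  simp only [add_smul, mul_smul, algebraMap_smul, map_add, map_smul, h1, h2, h3, h4]

theorem Coord.sq_smul (x : V) : (ω * ω) • x = x + ω • x := by
  rw [hd.hω, add_smul, one_smul]

omit hd in
/-- The `K`-matrix. -/
def kmat (i u' : V) (χ φ : V →ₗ[K] K) (a b c d : K) : Module.End F V :=
  kmap (a • χ + b • φ) i + kmap (c • χ + d • φ) u'

omit hd in
theorem kmat_apply (a b c d : K) (v : V) :
    kmat (F := F) i u' χ φ a b c d v = (a * χ v + b * φ v) • i + (c * χ v + d * φ v) • u' := by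
  simp [kmat]

theorem Coord.kmat_mul (a b c d a' b' c' d' : K) :
    kmat (F := F) i u' χ φ a b c d * kmat i u' χ φ a' b' c' d' =
      kmat i u' χ φ (a * a' + b * c') (a * b' + b * d') (c * a' + d * c') (c * b' + d * d') := by
  ext v
  simp only [Module.End.mul_apply, kmat_apply, map_add, map_smul, hd.hχi, hd.hχu, hd.hφi, hd.hφu,
    smul_eq_mul, mul_one, mul_zero, add_zero, zero_add]
  module

theorem Coord.kmat_one : kmat (F := F) i u' χ φ (1 : K) 0 0 1 = 1 := by
  ext v
  simp only [kmat_apply, one_mul, zero_mul, add_zero, zero_add, Module.End.one_apply]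
  exact hd.hdec v

/-- A non-singular `K`-matrix gives an element of `H`. -/
theorem Coord.kmat_mem (hM : ContainsM K H) (a b c d : K) (hdet : a * d - b * c ≠ 0) :
    ∃ g ∈ H, g.1 = kmat (F := F) i u' χ φ a b c d := by
  set Δ := a * d - b * c with hΔ
  let g : (Module.End F V)ˣ :=
    { val := kmat i u' χ φ a b c d
      inv := kmat i u' χ φ (d / Δ) (-b / Δ) (-c / Δ) (a / Δ)
      val_inv := by
        rw [hd.kmat_mul, ← hd.kmat_one]
        congr 1
        all_goals field_simp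
        all_goals rw [hΔ]
        all_goals ring
      inv_val := by
        rw [hd.kmat_mul, ← hd.kmat_one]
        congr 1
        all_goals field_simp
        all_goals rw [hΔ]
        all_goals ring }
  refine ⟨g, ?_, rfl⟩
  refine hM g ?_ ?_ ?_
  · intro e
    refine ⟨e, fun v => ?_⟩
    change kmat i u' χ φ a b c d (e • v) = e • kmat i u' χ φ a b c d v
    simp only [kmat_apply, map_smul, smul_eq_mul, smul_add, smul_smul]
    congr 2 <;> ring
  · intro e
    refine ⟨e, fun v => ?_⟩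
    change kmat i u' χ φ (d / Δ) (-b / Δ) (-c / Δ) (a / Δ) (e • v) =
      e • kmat i u' χ φ (d / Δ) (-b / Δ) (-c / Δ) (a / Δ) v
    simp only [kmat_apply, map_smul, smul_eq_mul, smul_add, smul_smul]
    congr 2 <;> ring
  · rcases hd.hF2 (LinearMap.det g.1) with h0 | h1
    · exact absurd h0 (LinearMap.isUnit_det _ (Units.isUnit _)).ne_zero
    · exact h1

/-- The configuration with `a = e₁ + e₃`. -/
theorem Coord.gamma₂ (hM : ContainsM K H) {B : Module.End F V} (hB : InH H B)
    (h1 : B i = 0) (h2 : B (ω • i) = i) (h3 : B u' = 0) (h4 : B (ω • u') = i + u')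
    {ψ : V →ₗ[F] F} (hψ1 : ψ i = 0) (hψ2 : ψ (ω • i) = 0) (hψ3 : ψ u' = 1)
    (hψ4 : ψ (ω • u') = 0) : InH H (ψ.smulRight i) := by
  have z₂ := z2 (V := V) hd.hF2
  have z₃ := z3 (V := V) hd.hF2
  have z₄ := z4 (V := V) hd.hF2
  have hω0 : ω ≠ 0 := by
    rintro rfl
    have := hd.hω
    simp at this
  obtain ⟨n, hn, hnv⟩ := hd.kmat_mem hM (1 : K) 0 0 ω (by simpa using hω0)
  obtain ⟨hz, hym⟩ := hB
  have hn1 : n.1 i = i := by
    simp [hnv, kmat_apply, hd.hχi, hd.hφi]
  have hn2 : n.1 (ω • i) = ω • i := by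
    simp [hnv, kmat_apply, hd.hχi, hd.hφi]
  have hn3 : n.1 u' = ω • u' := by
    simp [hnv, kmat_apply, hd.hχu, hd.hφu]
  have hn4 : n.1 (ω • u') = u' + ω • u' := by
    simp [hnv, kmat_apply, hd.hχu, hd.hφu, hd.sq_smul]
  have hTT : (ψ.smulRight i) * (ψ.smulRight i) = 0 := by
    ext v
    simp [hψ1]
  refine ⟨hTT, ?_⟩
  have key : uni (ψ.smulRight i) hTT = uni B hz * n * uni B hz * n := by
    apply Units.ext
    apply hd.ext4
    · simp only [uni_val, Units.val_mul, Module.End.mul_apply, LinearMap.add_apply,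
        Module.End.one_apply, LinearMap.smulRight_apply, hψ1, zero_smul, add_zero, hn1, h1]
    · simp only [uni_val, Units.val_mul, Module.End.mul_apply, LinearMap.add_apply,
        Module.End.one_apply, LinearMap.smulRight_apply, hψ2, zero_smul, add_zero, hn2, h2,
        map_add, h1, hn1]
      abel_nf
      simp [z₂, z₃, z₄]
    · simp only [uni_val, Units.val_mul, Module.End.mul_apply, LinearMap.add_apply,
        Module.End.one_apply, LinearMap.smulRight_apply, hψ3, one_smul, hn3, hn4, h4,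
        map_add, h1, h3, hn1]
      abel_nf
      simp [z₂, z₃, z₄]
    · simp only [uni_val, Units.val_mul, Module.End.mul_apply, LinearMap.add_apply,
        Module.End.one_apply, LinearMap.smulRight_apply, hψ4, zero_smul, add_zero, hn4, hn3,
        map_add, h1, h3, h4, hn1]
      abel_nf
      simp [z₂, z₃, z₄]
  rw [key]
  exact H.mul_mem (H.mul_mem (H.mul_mem hym hn) hym) hn

/-- The configuration with `b = e₁ + e₃`. -/
theorem Coord.gamma₁ (hM : ContainsM K H) {B : Module.End F V} (hB : InH H B)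
    (h1 : B i = 0) (h2 : B (ω • i) = u') (h3 : B u' = 0) (h4 : B (ω • u') = i + u')
    {ψ : V →ₗ[F] F} (hψ1 : ψ i = 0) (hψ2 : ψ (ω • i) = 1) (hψ3 : ψ u' = 1)
    (hψ4 : ψ (ω • u') = 0) : InH H (ψ.smulRight (i + ω • i + u')) := by
  have z₂ := z2 (V := V) hd.hF2
  have z₃ := z3 (V := V) hd.hF2
  have z₄ := z4 (V := V) hd.hF2
  have z₅ := z5 (V := V) hd.hF2
  have z₆ := z6 (V := V) hd.hF2
  have z₇ := z7 (V := V) hd.hF2
  have z₈ := z8 (V := V) hd.hF2
  have hω0 : ω ≠ 0 := by
    rintro rfl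
    have := hd.hω
    simp at this
  have hK2 := two_K (K := K) hd.hF2
  obtain ⟨n, hn, hnv⟩ := hd.kmat_mem hM ω ω 0 ω (by
    simpa using hω0)
  obtain ⟨n₂, hn₂, hnv₂⟩ := hd.kmat_mem hM (1 + ω) 0 1 ω (by
    have : (1 + ω) * ω - 0 * 1 = 1 := by
      linear_combination hd.hω + hK2 ω
    rw [this]
    exact one_ne_zero)
  obtain ⟨hz, hym⟩ := hB
  have hsq := hd.sq_smul
  have hn1 : n.1 i = ω • i := by
    simp [hnv, kmat_apply, hd.hχi, hd.hφi]
  have hn2 : n.1 (ω • i) = i + ω • i := by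
    simp [hnv, kmat_apply, hd.hχi, hd.hφi, hsq]
  have hn3 : n.1 u' = ω • i + ω • u' := by
    simp [hnv, kmat_apply, hd.hχu, hd.hφu]
  have hn4 : n.1 (ω • u') = i + ω • i + (u' + ω • u') := by
    simp [hnv, kmat_apply, hd.hχu, hd.hφu, hsq]
  have hm1 : n₂.1 i = i + ω • i + u' := by
    simp [hnv₂, kmat_apply, hd.hχi, hd.hφi, add_smul]
  have hm2 : n₂.1 (ω • i) = i + ω • u' := by
    have e : (1 + ω) * ω = 1 := by linear_combination hd.hω + hK2 ω
    simp [hnv₂, kmat_apply, hd.hχi, hd.hφi, e]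
  have hm3 : n₂.1 u' = ω • u' := by
    simp [hnv₂, kmat_apply, hd.hχu, hd.hφu]
  have hm4 : n₂.1 (ω • u') = u' + ω • u' := by
    simp [hnv₂, kmat_apply, hd.hχu, hd.hφu, hsq]
  have hTT : (ψ.smulRight (i + ω • i + u')) * (ψ.smulRight (i + ω • i + u')) = 0 := by
    have hψw : ψ (i + ω • i + u') = 0 := by
      rw [map_add, map_add, hψ1, hψ2, hψ3, zero_add, two_F hd.hF2]
    ext v
    rw [Module.End.mul_apply, LinearMap.smulRight_apply, LinearMap.smulRight_apply, map_smul, hψw]
    simp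
  refine ⟨hTT, ?_⟩
  have key : uni (ψ.smulRight (i + ω • i + u')) hTT = uni B hz * n * uni B hz * n₂ := by
    apply Units.ext
    apply hd.ext4
    · simp only [uni_val, Units.val_mul, Module.End.mul_apply, LinearMap.add_apply,
        Module.End.one_apply, LinearMap.smulRight_apply, hψ1, zero_smul, add_zero, hm1, h1, h2, h3,
        h4, hn1, hn2, hn3, hn4, map_add]
      abel_nf
      simp [z₂, z₃, z₄, z₅, z₆, z₇, z₈]
    · simp only [uni_val, Units.val_mul, Module.End.mul_apply, LinearMap.add_apply,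
        Module.End.one_apply, LinearMap.smulRight_apply, hψ2, one_smul, add_zero, hm2, h1, h2, h3,
        h4, hn1, hn2, hn3, hn4, map_add]
      abel_nf
      simp [z₂, z₃, z₄, z₅, z₆, z₇, z₈]
    · simp only [uni_val, Units.val_mul, Module.End.mul_apply, LinearMap.add_apply,
        Module.End.one_apply, LinearMap.smulRight_apply, hψ3, one_smul, add_zero, hm3, h1, h2, h3,
        h4, hn1, hn2, hn3, hn4, map_add]
      abel_nf
      simp [z₂, z₃, z₄, z₅, z₆, z₇, z₈]
    · simp only [uni_val, Units.val_mul, Module.End.mul_apply, LinearMap.add_apply,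
        Module.End.one_apply, LinearMap.smulRight_apply, hψ4, zero_smul, add_zero, hm4, h1, h2, h3,
        h4, hn1, hn2, hn3, hn4, map_add]
      abel_nf
      simp [z₂, z₃, z₄, z₅, z₆, z₇, z₈]
  rw [key]
  exact H.mul_mem (H.mul_mem (H.mul_mem hym hn) hym) hn₂

end

/-- The structure of `𝔽₄`. -/
theorem exists_omega [FiniteDimensional F K] (hF2 : ∀ f : F, f = 0 ∨ f = 1)
    (hr : finrank F K = 2) :
    ∃ ω : K, ω * ω = 1 + ω ∧ (∀ c : K, ∃ α β : F, algebraMap F K α + algebraMap F K β * ω = c) ∧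
      ω ∉ (⊥ : Subalgebra F K) := by
  classical
  obtain ⟨ω, hω⟩ : ∃ ω : K, ω ∉ (⊥ : Subalgebra F K) := by
    by_contra hall
    push Not at hall
    have : (⊥ : Subalgebra F K) = ⊤ := eq_top_iff.mpr fun y _ => hall y
    have h1 := Subalgebra.bot_eq_top_iff_finrank_eq_one.mp this
    omega
  have hli : LinearIndependent F ![(1 : K), ω] := by
    rw [LinearIndependent.pair_iff]
    intro s t hst
    have ht : t = 0 := by
      by_contra ht
      apply hω
      rw [Algebra.mem_bot]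
      refine ⟨-(s / t), ?_⟩
      rw [Algebra.smul_def, Algebra.smul_def, mul_one] at hst
      have hta : algebraMap F K t ≠ 0 := by
        simpa using ht
      rw [map_neg, map_div₀]
      field_simp
      linear_combination -hst
    subst ht
    refine ⟨?_, rfl⟩
    simpa using hst
  have hspan : Submodule.span F (Set.range ![(1 : K), ω]) = ⊤ :=
    hli.span_eq_top_of_card_eq_finrank (by simpa using hr.symm)
  have hK : ∀ c : K, ∃ α β : F, algebraMap F K α + algebraMap F K β * ω = c := by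
    intro c
    have hc : c ∈ Submodule.span F (Set.range ![(1 : K), ω]) := by
      rw [hspan]; trivial
    have e : Set.range ![(1 : K), ω] = {1, ω} := by
      simp [Set.pair_comm]
    rw [e, Submodule.mem_span_pair] at hc
    obtain ⟨a, b, hab⟩ := hc
    refine ⟨a, b, ?_⟩
    rw [← hab, Algebra.smul_def, Algebra.smul_def, mul_one]
  have h2 := two_K (K := K) hF2
  refine ⟨ω, ?_, hK, hω⟩
  have hmem0 : ω ≠ 0 := fun h => hω (h ▸ Subalgebra.zero_mem _)
  have hmem1 : ω ≠ 1 := fun h => hω (h ▸ Subalgebra.one_mem _)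
  obtain ⟨α, β, hab⟩ := hK (ω * ω)
  rcases hF2 α with rfl | rfl <;> rcases hF2 β with rfl | rfl
  · exfalso
    simp only [map_zero, zero_mul, add_zero] at hab
    exact hmem0 (by simpa using hab.symm)
  · exfalso
    simp only [map_zero, map_one, one_mul, zero_add] at hab
    have h3 : ω * (ω - 1) = 0 := by linear_combination -hab
    rcases mul_eq_zero.mp h3 with h | h
    · exact hmem0 h
    · exact hmem1 (sub_eq_zero.mp h)
  · exfalso
    simp only [map_zero, map_one, zero_mul, add_zero] at hab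
    have : (ω + 1) * (ω + 1) = 0 := by
      linear_combination -hab + h2 ω + h2 1 
    have h3 : ω + 1 = 0 := by simpa using this
    apply hmem1
    linear_combination h3 - h2 1
  · simp only [map_one, one_mul] at hab
    exact hab.symm

variable {w₁ u u' : V} {h : (Module.End F V)ˣ} {φ₀ φ : V →ₗ[K] K} {ε : K →ₗ[F] F}

/-- The exceptional case. -/
theorem all_of_exc [Finite F] [FiniteDimensional F V] [FiniteDimensional F K]
    (hd : Dat K H w₁ h u u' φ₀ φ ε) (hr : finrank F K = 2)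
    (hm : ∀ w : V, ∃ z, z ∉ Submodule.span K {w}) (hF2 : ∀ f : F, f = 0 ∨ f = 1)
    (hall : ∀ x, x ∈ Submodule.span K {w₁} ⊔ Submodule.span K {h⁻¹.1 u})
    (ψ : V →ₗ[F] F) (w : V) (hψ : ψ w = 0) : InH H (ψ.smulRight w) := by
  classical
  have hrp : (finrank F K).Prime := by rw [hr]; exact Nat.prime_two
  obtain ⟨ω, hω, hK, hωbot⟩ := exists_omega (F := F) (K := K) hF2 hr
  have hV2 := two_V (V := V) hF2
  have hK2 := two_K (K := K) hF2
  -- the kernel of φ
  have hφb : φ (h⁻¹.1 u) ≠ 0 := by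
    intro h0
    have hu' := hall u'
    obtain ⟨a, ha, b, hb, hab⟩ := Submodule.mem_sup.mp hu'
    obtain ⟨a', rfl⟩ := Submodule.mem_span_singleton.mp ha
    obtain ⟨b', rfl⟩ := Submodule.mem_span_singleton.mp hb
    have := hd.hφu'
    rw [← hab] at this
    simp [hd.hφ, h0] at this
  have hkerφ : ∀ v, φ v = 0 → v ∈ kline F K w₁ := by
    intro v hv
    have hv' := hall v
    obtain ⟨a, ha, b, hb, hab⟩ := Submodule.mem_sup.mp hv'
    obtain ⟨a', rfl⟩ := Submodule.mem_span_singleton.mp ha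
    obtain ⟨b', rfl⟩ := Submodule.mem_span_singleton.mp hb
    rw [← hab] at hv
    simp only [map_add, map_smul, hd.hφ, smul_eq_mul, mul_zero, zero_add, mul_eq_zero] at hv
    have hb0 : b' = 0 := hv.resolve_right hφb
    rw [mem_kline]
    exact ⟨a', by rw [← hab, hb0]; simp⟩
  obtain ⟨i, hi, hi0⟩ := Submodule.exists_mem_ne_zero_of_ne_bot hd.cfg.meet
  obtain ⟨i₀, hi₀⟩ := mem_kline.mp hi.1
  have hi₀0 : i₀ ≠ 0 := by
    rintro rfl
    apply hi0
    rw [← hi₀, zero_smul]
  have hw₁i : w₁ = i₀⁻¹ • i := by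
    rw [← hi₀, smul_smul, inv_mul_cancel₀ hi₀0, one_smul]
  have hφi : φ i = 0 := map_eq_zero_of_mem_kline hd.hφ hi.1
  have hiu' : i ∉ Submodule.span K {u'} := by
    intro hmem
    obtain ⟨c, hc⟩ := Submodule.mem_span_singleton.mp hmem
    have := congrArg φ hc
    rw [map_smul, hd.hφu', hφi, smul_eq_mul, mul_one] at this
    apply hi0
    rw [← hc, this, zero_smul]
  obtain ⟨χ, hχ, hχi⟩ := exists_functional hiu'
  have hχu : χ u' = 0 := hχ _ (Submodule.mem_span_singleton_self _)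
  have hdec : ∀ v, χ v • i + φ v • u' = v := by
    intro v
    have h1 : φ (v - φ v • u') = 0 := by
      simp [hd.hφu']
    obtain ⟨a, ha⟩ := mem_kline.mp (hkerφ _ h1)
    have h2 : v - φ v • u' = (a * i₀⁻¹) • i := by
      rw [← ha, mul_smul, ← hw₁i]
    have h3 := congrArg χ h2
    simp only [map_sub, map_smul, hχu, hχi, smul_eq_mul, mul_zero, sub_zero, mul_one] at h3
    rw [h3, ← h2]
    abel
  have hc : Coord F K i u' ω χ φ := ⟨hF2, hω, hK, hχi, hχu, hφi, hd.hφu', hdec⟩
  -- R and ω i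
  have hiR := hi.2
  have hωR : ω • i ∉ imU (kline F K w₁) h := by
    intro hmem
    apply hd.cfg.ne
    refine Submodule.eq_of_le_of_finrank_eq ?_ (finrank_imU _ h).symm
    intro x hx
    obtain ⟨c, rfl⟩ := mem_kline.mp hx
    obtain ⟨α, β, hab⟩ := hK (c * i₀⁻¹)
    have e : c • w₁ = α • i + β • (ω • i) := by
      rw [hw₁i, smul_smul, ← hab, add_smul, mul_smul, algebraMap_smul, algebraMap_smul]
    rw [e]
    exact Submodule.add_mem _ (Submodule.smul_mem _ _ hiR) (Submodule.smul_mem _ _ hmem)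
  have hωP : ω • i ∈ kline F K w₁ := smul_mem_kline hi.1 ω
  have h₁ : h⁻¹.1 (ω • i) ∉ Submodule.span K {w₁} := fun hmem => hωR (mem_imU.mpr hmem)
  obtain ⟨φ₁, hφ₁, hφ₁u⟩ := exists_functional h₁
  have hφ₁w : φ₁ w₁ = 0 := hφ₁ _ (Submodule.mem_span_singleton_self _)
  have hd' : Dat K H w₁ h (ω • i) u' φ₁ φ ε :=
    ⟨hd.cfg, hd.hM, hωP, hωR, hd.hu', hd.hu'P, hφ₁w, hφ₁u, hd.hφ, hd.hφu', hd.hε⟩
  -- elements of R
  have hRel : ∀ r ∈ imU (kline F K w₁) h, ∃ α β : F, r = α • i + β • u' := by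
    intro r hr'
    obtain ⟨f, hf⟩ := cfg_quot' hd.cfg hd.hM hrp hd.hu' hd.hu'P hr'
    obtain ⟨c, hc'⟩ := mem_kline.mp hf
    obtain ⟨α, β, hab⟩ := hK (c * i₀⁻¹)
    have e : r - f • u' = α • i + β • (ω • i) := by
      rw [← hc', hw₁i, smul_smul, ← hab, add_smul, mul_smul, algebraMap_smul, algebraMap_smul]
    rcases hF2 β with rfl | rfl
    · refine ⟨α, f, ?_⟩
      rw [zero_smul, add_zero] at e
      rw [← e]
      abel
    · exfalso
      apply hωR
      rw [one_smul] at e
      have e2 : ω • i = r - f • u' - α • i := by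
        rw [e]
        abel
      rw [e2]
      exact Submodule.sub_mem _ (Submodule.sub_mem _ hr' (Submodule.smul_mem _ _ hd.hu'))
        (Submodule.smul_mem _ _ hiR)
  -- the kernel of `φ₁`
  have hφ₁x : ∀ x, φ₁ x = φ x * φ₁ u' := by
    intro x
    have h3 : φ₁ (χ x • i + φ x • u') = φ₁ x := by rw [hdec x]
    rw [← h3, map_add, LinearMap.map_smul φ₁, LinearMap.map_smul φ₁,
      map_eq_zero_of_mem_kline hφ₁w hi.1]
    simp
  have hφ₁u' : φ₁ u' ≠ 0 := by
    intro h0
    have h3 := hφ₁x (h⁻¹.1 (ω • i))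
    rw [h0, hφ₁u] at h3
    simp at h3
  have hkerφ₁ : ∀ x, φ₁ x = 0 → x ∈ kline F K w₁ := by
    intro x hx
    apply hkerφ
    rw [hφ₁x] at hx
    exact (mul_eq_zero.mp hx).resolve_right hφ₁u'
  -- non-vanishing
  have hne : ∀ j v, j ≠ 0 → v ∉ imU (kline F K w₁) h → bmap (F := F) h φ₁ j v ≠ 0 := by
    intro j v hj hv h0
    rw [bmap_apply] at h0
    have h2 := congrArg h⁻¹.1 h0
    rw [inv_val_apply, map_zero] at h2
    have hj' : h⁻¹.1 j ≠ 0 := by
      intro h3
      apply hj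
      have := congrArg h.1 h3
      simpa using this
    rcases smul_eq_zero.mp h2 with h3 | h3
    · exact hv (mem_imU.mpr (hkerφ₁ _ h3))
    · exact hj' h3
  -- membership facts
  have hbot : ∀ f : F, ω ≠ algebraMap F K f := by
    intro f hf
    exact hωbot (Algebra.mem_bot.mpr ⟨f, hf.symm⟩)
  have he₄ : ω • u' ∉ imU (kline F K w₁) h := by
    intro hmem
    obtain ⟨α, β, e⟩ := hRel _ hmem
    have := congrArg φ e
    simp only [map_smul, map_add, LinearMap.map_smul_of_tower, hφi, hd.hφu', smul_eq_mul,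
      mul_one, smul_zero, zero_add] at this
    apply hbot β
    rw [this, Algebra.algebraMap_eq_smul_one]
  have he₂₄ : ω • i + ω • u' ∉ imU (kline F K w₁) h := by
    intro hmem
    obtain ⟨α, β, e⟩ := hRel _ hmem
    have := congrArg φ e
    simp only [map_smul, map_add, LinearMap.map_smul_of_tower, hφi, hd.hφu', smul_eq_mul,
      mul_one, smul_zero, zero_add, mul_zero] at this
    apply hbot β
    rw [this, Algebra.algebraMap_eq_smul_one]
  have hBi : ∀ j, bmap (F := F) h φ₁ j i = 0 := fun j => hd'.bmap_R hiR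
  have hBu : ∀ j, bmap (F := F) h φ₁ j u' = 0 := fun j => hd'.bmap_R hd.hu'
  have hBω : ∀ j, bmap (F := F) h φ₁ j (ω • i) = j := by
    intro j
    rw [bmap_apply, hφ₁u, one_smul, val_inv_apply]
  have hBadd : ∀ j j' v, bmap (F := F) h φ₁ (j + j') v =
      bmap (F := F) h φ₁ j v + bmap (F := F) h φ₁ j' v := by
    intro j j' v
    simp [bmap_apply, smul_add]
  have hu'0 : u' ≠ 0 := by
    rintro rfl
    apply hd.hu'P
    exact Submodule.zero_mem _
  have hiu0 : i + u' ≠ 0 := by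
    intro h0
    have := congrArg φ h0
    simp [hφi, hd.hφu'] at this
  obtain ⟨α₁, β₁, ha⟩ := hRel _ (hd'.bmap_mem hiR (ω • u'))
  obtain ⟨α₂, β₂, hb⟩ := hRel _ (hd'.bmap_mem hd.hu' (ω • u'))
  have ha1 : bmap (F := F) h φ₁ i (ω • u') ≠ 0 := hne _ _ hi0 he₄
  have ha2 : i + bmap (F := F) h φ₁ i (ω • u') ≠ 0 := by
    have := hne i _ hi0 he₂₄
    rwa [map_add, hBω] at this
  have hb1 : bmap (F := F) h φ₁ u' (ω • u') ≠ 0 := hne _ _ hu'0 he₄
  have hb2 : u' + bmap (F := F) h φ₁ u' (ω • u') ≠ 0 := by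
    have := hne u' _ hu'0 he₂₄
    rwa [map_add, hBω] at this
  have hab2 : i + u' + (bmap (F := F) h φ₁ i (ω • u') + bmap (F := F) h φ₁ u' (ω • u')) ≠ 0 := by
    have := hne (i + u') _ hiu0 he₂₄
    rwa [map_add, hBω, hBadd] at this
  -- the functionals on K
  have h1ω : (1 : K) ∉ Submodule.span F {ω} := by
    intro hmem
    obtain ⟨f, hf⟩ := Submodule.mem_span_singleton.mp hmem
    rcases hF2 f with rfl | rfl
    · simp at hf
    · apply hbot 1
      rw [map_one]
      simpa using hf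
  have hω1 : ω ∉ Submodule.span F {(1 : K)} := by
    intro hmem
    obtain ⟨f, hf⟩ := Submodule.mem_span_singleton.mp hmem
    apply hbot f
    rw [← hf, Algebra.algebraMap_eq_smul_one]
  obtain ⟨ε₁, hε₁, hε₁1⟩ := exists_functional h1ω
  have hε₁ω : ε₁ ω = 0 := hε₁ _ (Submodule.mem_span_singleton_self _)
  obtain ⟨ε₂, hε₂, hε₂ω⟩ := exists_functional hω1
  have hε₂1 : ε₂ 1 = 0 := hε₂ _ (Submodule.mem_span_singleton_self _)
  -- the case distinction
  have hcases : bmap (F := F) h φ₁ i (ω • u') = i + u' ∨ bmap (F := F) h φ₁ u' (ω • u') = i + u' := by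
    rcases hF2 α₁ with rfl | rfl <;> rcases hF2 β₁ with rfl | rfl <;>
      rcases hF2 α₂ with rfl | rfl <;> rcases hF2 β₂ with rfl | rfl <;>
      simp only [zero_smul, one_smul, zero_add, add_zero] at ha hb <;>
      first
        | exact Or.inl ha
        | exact Or.inr hb
        | exact absurd ha ha1
        | exact absurd hb hb1
        | exact absurd (by rw [ha]; exact hV2 i) ha2
        | exact absurd (by rw [hb]; exact hV2 u') hb2
        | exact absurd (by
            rw [ha, hb]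
            have e1 := hV2 i
            have e2 := hV2 u'
            have : i + u' + (u' + i) = (i + i) + (u' + u') := by abel
            rw [this, e1, e2, add_zero]) hab2
  rcases hcases with hcase | hcase
  · -- Γ₂
    let ψ₂ : V →ₗ[F] F := ε₁ ∘ₗ φ.restrictScalars F
    have hψa : ∀ v, ψ₂ v = ε₁ (φ v) := fun v => rfl
    have hB : InH H (bmap (F := F) h φ₁ i) :=
      inH_bmap hd.hM hd.cfg.h_mem (map_eq_zero_of_mem_kline hφ₁w (mem_imU.mp hiR))
    have key := hc.gamma₂ hd.hM hB (hBi i) (hBω i) (hBu i) hcase (ψ := ψ₂)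
      (by simp [hψa, hφi]) (by simp [hψa, hφi]) (by simp [hψa, hd.hφu', hε₁1])
      (by simp [hψa, hd.hφu', hε₁ω])
    refine inH_all_of_type1 hd.hM hm hrp.two_le ?_ hi0 ?_ key ψ w hψ
    · intro h0
      have := congrArg (fun f : V →ₗ[F] F => f u') h0
      simp [hψa, hd.hφu', hε₁1] at this
    · intro c
      simp [hψa, hφi]
  · -- Γ₁
    let ψ₁ : V →ₗ[F] F := ε₂ ∘ₗ χ.restrictScalars F + ε₁ ∘ₗ φ.restrictScalars F
    have hψa : ∀ v, ψ₁ v = ε₂ (χ v) + ε₁ (φ v) := fun v => rfl
    have hB : InH H (bmap (F := F) h φ₁ u') :=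
      inH_bmap hd.hM hd.cfg.h_mem (map_eq_zero_of_mem_kline hφ₁w (mem_imU.mp hd.hu'))
    have hψ1 : ψ₁ i = 0 := by simp [hψa, hφi, hχi, hε₂1]
    have hψ2 : ψ₁ (ω • i) = 1 := by simp [hψa, hφi, hχi, hε₂ω]
    have hψ3 : ψ₁ u' = 1 := by simp [hψa, hd.hφu', hχu, hε₁1]
    have hψ4 : ψ₁ (ω • u') = 0 := by simp [hψa, hd.hφu', hχu, hε₁ω]
    have key := hc.gamma₁ hd.hM hB (hBi u') (hBω u') (hBu u') hcase hψ1 hψ2 hψ3 hψ4
    have h2F := two_F hF2
    have hw0 : i + ω • i + u' ≠ 0 := by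
      intro h0
      have := congrArg φ h0
      simp [hφi, hd.hφu'] at this
    refine inH_all_of_type1 hd.hM hm hrp.two_le ?_ hw0 ?_ key ψ w hψ
    · intro h0
      have := congrArg (fun f : V →ₗ[F] F => f u') h0
      simp only [hψ3, LinearMap.zero_apply] at this
      exact one_ne_zero this
    · intro c
      obtain ⟨α, β, hab⟩ := hK c
      have e1 : ψ₁ (i + ω • i + u') = 0 := by
        rw [map_add, map_add, hψ1, hψ2, hψ3, zero_add, h2F]
      have e2 : ω • (i + ω • i + u') = ω • i + (i + ω • i) + ω • u' := by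
        rw [smul_add, smul_add, smul_smul, hc.sq_smul]
      have e3 : ψ₁ (ω • (i + ω • i + u')) = 0 := by
        rw [e2, map_add, map_add, map_add, hψ1, hψ2, hψ4, zero_add, add_zero, h2F]
      rw [← hab, add_smul, mul_smul, algebraMap_smul, algebraMap_smul, map_add, map_smul, map_smul,
        e1, e3]
      simp

end Cfsg.Agent.Lib.ExtField.Exc
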