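import Cfsg.Agent.Lib.ExtField.Exc

/-!
# Main theorem: a subgroup containing `N ∩ SL` and not contained in `N` contains all transvections
-/

set_option autoImplicit false
set_option linter.unusedSectionVars false

open Module Cfsg.Agent.Lib.ExtField.Basic Cfsg.Agent.Lib.ExtField.Spread
  Cfsg.Agent.Lib.ExtField.MaxPair Cfsg.Agent.Lib.ExtField.Comm Cfsg.Agent.Lib.ExtField.Cases
  Cfsg.Agent.Lib.ExtField.Exc

namespace Cfsg.Agent.Lib.ExtField.Main

variable {F K V : Type*} [Field F] [Field K] [Algebra F K] [AddCommGroup V] [Module F V]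
  [Module K V] [IsScalarTower F K V]

variable {H : Subgroup (Module.End F V)ˣ}

/-- Two independent vectors in the intersection. -/
theorem exists_pair [Finite F] [FiniteDimensional F V] [FiniteDimensional F K]
    {w₁ u u' : V} {h : (Module.End F V)ˣ} {φ₀ φ : V →ₗ[K] K} {ε : K →ₗ[F] F}
    (hd : Dat K H w₁ h u u' φ₀ φ ε) (hr : (finrank F K).Prime) (hr3 : finrank F K ≠ 2) :
    ∃ s i, s ∈ kline F K w₁ ⊓ imU (kline F K w₁) h ∧ i ∈ kline F K w₁ ⊓ imU (kline F K w₁) h ∧
      i ≠ 0 ∧ ∀ f : F, s ≠ f • i := by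
  classical
  obtain ⟨i, hi, hi0⟩ := Submodule.exists_mem_ne_zero_of_ne_bot hd.cfg.meet
  by_contra hall
  push Not at hall
  have hall' : ∀ s ∈ kline F K w₁ ⊓ imU (kline F K w₁) h, ∃ f : F, s = f • i :=
    fun s hs => hall s i hs hi hi0
  -- P is contained in the span of `i, u`
  have hle : kline F K w₁ ≤ Submodule.span F (Set.range ![i, u]) := by
    intro x hx
    obtain ⟨f, hf⟩ := hd.cfg.quot hd.hM hr hd.hu hd.huR hx
    have hmem : x - f • u ∈ kline F K w₁ ⊓ imU (kline F K w₁) h :=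
      ⟨Submodule.sub_mem _ hx (Submodule.smul_mem _ _ hd.hu), hf⟩
    obtain ⟨f', hf'⟩ := hall' _ hmem
    have e : x = f' • i + f • u := by
      rw [← hf']
      abel
    have e2 : Set.range ![i, u] = {i, u} := by
      simp [Set.pair_comm]
    rw [e2, Submodule.mem_span_pair]
    exact ⟨f', f, e.symm⟩
  have h1 : finrank F (kline F K w₁) ≤ 2 := by
    refine (Submodule.finrank_mono hle).trans ?_
    have := finrank_range_le_card (R := F) ![i, u]
    simpa [Set.finrank] using this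
  -- finrank of P
  let ι : K →ₗ[F] V := (LinearMap.toSpanSingleton K V w₁).restrictScalars F
  have hinj : Function.Injective ι := by
    rw [injective_iff_map_eq_zero]
    intro c hc
    have : c • w₁ = 0 := hc
    exact (smul_eq_zero.mp this).resolve_right hd.cfg.w₁_ne
  have hrange : LinearMap.range ι = kline F K w₁ := by
    ext x
    rw [mem_kline]
    rfl
  have h2 : finrank F (kline F K w₁) = finrank F K := by
    rw [← hrange]
    exact LinearMap.finrank_range_of_inj hinj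
  have h3 := hr.two_le
  omega

/-- Main theorem. -/
theorem all_transvections [Finite F] [FiniteDimensional F V] [FiniteDimensional F K]
    (hr : (finrank F K).Prime) (hm : ∀ w : V, ∃ z, z ∉ Submodule.span K {w})
    (hM : ContainsM K H) {h₁ : (Module.End F V)ˣ} (hh₁ : h₁ ∈ H) (hs : ¬ IsSemi K h₁)
    (ψ : V →ₗ[F] F) (w : V) (hψ : ψ w = 0) : InH H (ψ.smulRight w) := by
  classical
  obtain ⟨w₁, h, hc⟩ := exists_cfg hM hm hh₁ hs
  obtain ⟨u, u', φ₀, φ, ε, hd⟩ := exists_dat hc hM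
  by_cases hF : ∃ g : F, g ≠ 0 ∧ g ≠ 1
  · obtain ⟨g, hg, hg1⟩ := hF
    exact all_of_three hd hr hm hg hg1 ψ w hψ
  have hF2 : ∀ f : F, f = 0 ∨ f = 1 := by
    push Not at hF
    intro f
    by_cases hf : f = 0
    · exact Or.inl hf
    · exact Or.inr (hF f hf)
  by_cases hx : ∃ x, x ∉ Submodule.span K {w₁} ⊔ Submodule.span K {h⁻¹.1 u}
  · obtain ⟨x, hx⟩ := hx
    exact all_of_large hd hr hm hx ψ w hψ
  have hall : ∀ x, x ∈ Submodule.span K {w₁} ⊔ Submodule.span K {h⁻¹.1 u} := by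
    push Not at hx
    exact hx
  by_cases hr2 : finrank F K = 2
  · exact all_of_exc hd hr2 hm hF2 hall ψ w hψ
  by_cases hcomm : ∀ j ∈ kline F K w₁ ⊓ imU (kline F K w₁) h, ψf h φ₀ φ ε j = ρf h φ₀ φ ε j
  · obtain ⟨s, i, hs', hi, hi0, hsi⟩ := exists_pair hd hr hr2
    exact all_of_dual hd hr hm hF2 hcomm hs' hi hi0 hsi ψ w hψ
  · push Not at hcomm
    obtain ⟨j, hj, hne⟩ := hcomm
    exact all_of_ne hd hr hm hj hne ψ w hψ

end Cfsg.Agent.Lib.ExtField.Main
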