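import Cfsg.Agent.Lib.ExtField.Spread

/-!
# Pairs of images of a `K`-line with maximal intersection
-/

set_option autoImplicit false
set_option linter.unusedSectionVars false

open Module Cfsg.Agent.Lib.ExtField.Basic

namespace Cfsg.Agent.Lib.ExtField.MaxPair

variable {F K V : Type*} [Field F] [Field K] [Algebra F K] [AddCommGroup V] [Module F V]
  [Module K V] [IsScalarTower F K V]

/-- Image of a subspace under a unit. -/
abbrev imU (P : Submodule F V) (g : (Module.End F V)ˣ) : Submodule F V :=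
  P.map (g.1 : V →ₗ[F] V)

theorem mem_imU {P : Submodule F V} {g : (Module.End F V)ˣ} {x : V} :
    x ∈ imU P g ↔ g⁻¹.1 x ∈ P := by
  constructor
  · rintro ⟨y, hy, rfl⟩
    simpa using hy
  · intro h
    exact ⟨_, h, by simp⟩

theorem apply_mem_imU {P : Submodule F V} {g : (Module.End F V)ˣ} {x : V} (hx : x ∈ P) :
    g.1 x ∈ imU P g := ⟨x, hx, rfl⟩

theorem finrank_imU [FiniteDimensional F V] (P : Submodule F V) (g : (Module.End F V)ˣ) :
    finrank F (imU P g) = finrank F P := by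
  have hinj : Function.Injective (g.1 : V →ₗ[F] V) := fun a b hab => by
    have := congrArg g⁻¹.1 hab
    simpa using this
  exact (Submodule.equivMapOfInjective _ hinj P).finrank_eq.symm

/-- A pair `P`, `h P` of images of the line `P = K w₁` with nonzero intersection of maximal
dimension. -/
structure Cfg (K : Type*) [Field K] [Algebra F K] [Module K V] [IsScalarTower F K V]
    (H : Subgroup (Module.End F V)ˣ) (w₁ : V) (h : (Module.End F V)ˣ) : Prop where
  w₁_ne : w₁ ≠ 0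
  h_mem : h ∈ H
  ne : kline F K w₁ ≠ imU (kline F K w₁) h
  meet : kline F K w₁ ⊓ imU (kline F K w₁) h ≠ ⊥
  max : ∀ g ∈ H, kline F K w₁ ≠ imU (kline F K w₁) g → kline F K w₁ ⊓ imU (kline F K w₁) g ≠ ⊥ →
    finrank F ↥(kline F K w₁ ⊓ imU (kline F K w₁) g) ≤
      finrank F ↥(kline F K w₁ ⊓ imU (kline F K w₁) h)

theorem exists_cfg [Finite F] [FiniteDimensional F V] {H : Subgroup (Module.End F V)ˣ}
    (hM : ContainsM K H) (hm : ∀ w : V, ∃ z, z ∉ Submodule.span K {w})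
    {h₁ : (Module.End F V)ˣ} (hh₁ : h₁ ∈ H) (hs : ¬ IsSemi K h₁) :
    ∃ (w₁ : V) (h : (Module.End F V)ˣ), Cfg K H w₁ h := by
  classical
  have hnl : ¬ ∀ (x : V) (c : K), ∃ c' : K, h₁.1 (c • x) = c' • h₁.1 x :=
    fun hl => hs (isSemi_of_lines hm h₁ hl)
  push Not at hnl
  obtain ⟨x, c, hxc⟩ := hnl
  have hx : x ≠ 0 := by
    rintro rfl
    apply hxc 0
    simp
  have hy : h₁.1 x ≠ 0 := by
    intro h0
    apply hx
    have := congrArg h₁⁻¹.1 h0
    simpa using this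
  obtain ⟨g, hg, hgx, hg1, hg2⟩ := exists_mem_apply_eq hM hm hx hy
  set P := kline F K x with hP
  have hh₀ : g⁻¹ * h₁ ∈ H := H.mul_mem (H.inv_mem hg) hh₁
  have hne₀ : P ≠ imU P (g⁻¹ * h₁) := by
    intro heq
    have h1 : (g⁻¹ * h₁).1 (c • x) ∈ imU P (g⁻¹ * h₁) :=
      apply_mem_imU (smul_mem_kline (self_mem_kline x) c)
    rw [← heq, hP, mem_kline (K := K)] at h1
    obtain ⟨c', hc'⟩ := h1
    apply hxc c'
    have h2 : g.1 (c' • x) = h₁.1 (c • x) := by
      rw [hc']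
      simp
    rw [← h2, hg1, hgx]
  have hx_mem : x ∈ P ⊓ imU P (g⁻¹ * h₁) := by
    refine ⟨self_mem_kline x, ?_⟩
    have h1 : (g⁻¹ * h₁).1 x = x := by
      simp [← hgx]
    have h2 := apply_mem_imU (P := P) (g := g⁻¹ * h₁) (self_mem_kline x)
    rwa [h1] at h2
  have hmeet₀ : P ⊓ imU P (g⁻¹ * h₁) ≠ ⊥ := by
    intro h0
    rw [h0, Submodule.mem_bot] at hx_mem
    exact hx hx_mem
  -- maximum
  let S : Set ℕ := {d | ∃ g ∈ H, P ≠ imU P g ∧ P ⊓ imU P g ≠ ⊥ ∧ finrank F ↥(P ⊓ imU P g) = d}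
  have hSne : S.Nonempty := ⟨_, _, hh₀, hne₀, hmeet₀, rfl⟩
  have hSbdd : BddAbove S := ⟨finrank F V, by
    rintro d ⟨g, _, _, _, rfl⟩
    exact Submodule.finrank_le _⟩
  obtain ⟨h, hh, hne, hmeet, hd⟩ := Nat.sSup_mem hSne hSbdd
  refine ⟨x, h, ⟨hx, hh, hne, hmeet, ?_⟩⟩
  intro g' hg' hne' hmeet'
  rw [← hP, hd]
  exact le_csSup hSbdd ⟨g', hg', hne', hmeet', rfl⟩

section Main

variable {H : Subgroup (Module.End F V)ˣ} {w₁ : V} {h : (Module.End F V)ˣ}

theorem inv_mem_of_mem_imU {w₁ x : V} (hx : x ∈ imU (kline F K w₁) h) : h⁻¹.1 x ∈ kline F K w₁ :=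
  mem_imU.mp hx

theorem map_eq_zero_of_mem_kline {φ : V →ₗ[K] K} {w₁ x : V} (hφ : φ w₁ = 0)
    (hx : x ∈ kline F K w₁) : φ x = 0 := by
  obtain ⟨c, rfl⟩ := mem_kline.mp hx
  simp [hφ]

/-- The conjugated root element. -/
def bmap (h : (Module.End F V)ˣ) (φ₀ : V →ₗ[K] K) (j : V) : Module.End F V :=
  h.1 * kmap φ₀ (h⁻¹.1 j) * h⁻¹.1

theorem bmap_apply (φ₀ : V →ₗ[K] K) (j v : V) :
    bmap (F := F) h φ₀ j v = h.1 (φ₀ (h⁻¹.1 v) • h⁻¹.1 j) := rfl

theorem inH_bmap [Finite F] (hM : ContainsM K H) (hh : h ∈ H) {φ₀ : V →ₗ[K] K} {j : V}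
    (hj : φ₀ (h⁻¹.1 j) = 0) : InH H (bmap (F := F) h φ₀ j) :=
  (inH_kmap hM hj).conj hh

/-- Main Lemma. -/
theorem Cfg.main [Finite F] [FiniteDimensional F V] (hc : Cfg K H w₁ h) (hM : ContainsM K H)
    {φ₀ : V →ₗ[K] K} (hφ₀ : φ₀ w₁ = 0) {u i : V} (hu : u ∈ kline F K w₁)
    (huR : u ∉ imU (kline F K w₁) h) (hφu : φ₀ (h⁻¹.1 u) = 1)
    (hi : i ∈ kline F K w₁) (hiR : i ∈ imU (kline F K w₁) h) {v : V} (hv : v ∈ kline F K w₁) :
    h.1 (φ₀ (h⁻¹.1 v) • h⁻¹.1 i) ∈ kline F K w₁ := by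
  classical
  set P := kline F K w₁ with hP
  set R := imU P h with hR
  by_cases hi0 : i = 0
  · subst hi0
    simp
  have hs₀ : φ₀ (h⁻¹.1 i) = 0 := map_eq_zero_of_mem_kline hφ₀ (mem_imU.mp hiR)
  obtain ⟨hz, hym⟩ := inH_bmap hM hc.h_mem hs₀
  set y := uni (bmap (F := F) h φ₀ i) hz with hy
  have hyapp : ∀ x, y.1 x = x + h.1 (φ₀ (h⁻¹.1 x) • h⁻¹.1 i) := fun x => rfl
  have hyfix : ∀ x ∈ R, y.1 x = x := by
    intro x hx
    rw [hyapp, map_eq_zero_of_mem_kline hφ₀ (mem_imU.mp hx)]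
    simp
  have hyu : y.1 u = u + i := by
    rw [hyapp, hφu, one_smul]
    simp
  -- P = y P
  have hPy : P = imU P y := by
    by_contra hne
    have hmeet : P ⊓ imU P y ≠ ⊥ := by
      intro h0
      have : i ∈ P ⊓ imU P y := by
        refine ⟨hi, ?_⟩
        have h1 := apply_mem_imU (P := P) (g := y) hi
        rwa [hyfix i hiR] at h1
      rw [h0, Submodule.mem_bot] at this
      exact hi0 this
    have hle := hc.max y hym hne hmeet
    -- strict inclusion
    have hlt : P ⊓ R < P ⊓ imU P y := by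
      refine lt_of_le_of_ne ?_ ?_
      · rintro x ⟨hx1, hx2⟩
        refine ⟨hx1, ?_⟩
        have h1 := apply_mem_imU (P := P) (g := y) hx1
        rwa [hyfix x hx2] at h1
      · intro heq
        have h1 : u + i ∈ P ⊓ imU P y := by
          refine ⟨P.add_mem hu hi, ?_⟩
          rw [← hyu]
          exact apply_mem_imU hu
        rw [← heq] at h1
        apply huR
        have := R.sub_mem h1.2 hiR
        simpa using this
    exact absurd (Submodule.finrank_lt_finrank_of_lt hlt) (not_lt.mpr hle)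
  have h1 : y.1 v ∈ P := by
    rw [hPy]
    exact apply_mem_imU hv
  rw [hyapp] at h1
  have := P.sub_mem h1 hv
  simpa using this

/-- The stabilizer of the intersection is the base field. -/
theorem Cfg.mem_bot [Finite F] [FiniteDimensional F V] (hc : Cfg K H w₁ h) (hM : ContainsM K H)
    (hr : (finrank F K).Prime) [FiniteDimensional F K]
    {φ₀ : V →ₗ[K] K} (hφ₀ : φ₀ w₁ = 0) {u : V} (hu : u ∈ kline F K w₁)
    (huR : u ∉ imU (kline F K w₁) h) (hφu : φ₀ (h⁻¹.1 u) = 1) {x : V}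
    (hx : h.1 x ∈ kline F K w₁) : φ₀ x ∈ (⊥ : Subalgebra F K) := by
  classical
  set P := kline F K w₁ with hP
  set R := imU P h with hR
  let I₀ : Set V := {j | j ∈ P ∧ h.1 j ∈ P}
  let L : Subalgebra F K :=
    { carrier := {c | ∀ j ∈ I₀, c • j ∈ I₀}
      mul_mem' := by
        intro a b ha hb j hj
        rw [mul_smul]
        exact ha _ (hb _ hj)
      add_mem' := by
        intro a b ha hb j hj
        rw [add_smul]
        have h1 := ha j hj
        have h2 := hb j hj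
        refine ⟨P.add_mem h1.1 h2.1, ?_⟩
        rw [map_add]
        exact P.add_mem h1.2 h2.2
      algebraMap_mem' := by
        intro f j hj
        have h1 : (algebraMap F K f) • j = f • j := by
          rw [algebraMap_smul]
        rw [h1]
        refine ⟨P.smul_mem f hj.1, ?_⟩
        rw [map_smul]
        exact P.smul_mem f hj.2 }
  have hmemL : φ₀ x ∈ L := by
    rintro j ⟨hj1, hj2⟩
    refine ⟨smul_mem_kline hj1 _, ?_⟩
    have hiR : h.1 j ∈ R := apply_mem_imU hj1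
    have := hc.main hM hφ₀ hu huR hφu hj2 hiR hx
    simpa using this
  rcases (Subalgebra.isSimpleOrder_of_finrank_prime F K hr).eq_bot_or_eq_top L with hL | hL
  · rw [← hL]
    exact hmemL
  · exfalso
    -- I₀ is K-stable, so is P
    obtain ⟨z, hz, hz0⟩ := Submodule.exists_mem_ne_zero_of_ne_bot hc.meet
    have hj₀ : h⁻¹.1 z ∈ I₀ := by
      refine ⟨mem_imU.mp hz.2, ?_⟩
      simpa using hz.1
    have hz0' : h⁻¹.1 z ≠ 0 := by
      intro h0
      apply hz0
      have := congrArg h.1 h0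
      simpa using this
    obtain ⟨c₀, hc₀⟩ := mem_kline.mp hj₀.1
    have hc₀0 : c₀ ≠ 0 := by
      rintro rfl
      apply hz0'
      rw [← hc₀, zero_smul]
    have hall : ∀ c : K, c • w₁ ∈ I₀ := by
      intro c
      have hmem : (c * c₀⁻¹) ∈ L := by rw [hL]; trivial
      have := hmem _ hj₀
      rwa [← hc₀, smul_smul, mul_assoc, inv_mul_cancel₀ hc₀0, mul_one] at this
    have hle : R ≤ P := by
      rintro _ ⟨p, hp, rfl⟩
      obtain ⟨c, rfl⟩ := mem_kline.mp hp
      exact (hall c).2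
    have hfr : finrank F R = finrank F P := finrank_imU P h
    exact hc.ne (Submodule.eq_of_le_of_finrank_eq hle hfr).symm

/-- `P = I + F u`. -/
theorem Cfg.quot [Finite F] [FiniteDimensional F V] (hc : Cfg K H w₁ h) (hM : ContainsM K H)
    (hr : (finrank F K).Prime) [FiniteDimensional F K] {u : V} (hu : u ∈ kline F K w₁)
    (huR : u ∉ imU (kline F K w₁) h) {x : V} (hx : x ∈ kline F K w₁) :
    ∃ f : F, x - f • u ∈ imU (kline F K w₁) h := by
  classical
  by_contra hall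
  push Not at hall
  set P := kline F K w₁ with hP
  set R := imU P h with hR
  set u₀ := h⁻¹.1 u with hu₀
  set x₀ := h⁻¹.1 x with hx₀
  have hu₀P : u₀ ∉ Submodule.span K {w₁} := by
    intro hmem
    apply huR
    rw [mem_imU]
    exact hmem
  -- an element of K outside F
  obtain ⟨c₀, hc₀⟩ : ∃ c₀ : K, c₀ ∉ (⊥ : Subalgebra F K) := by
    by_contra hall'
    push Not at hall'
    have : (⊥ : Subalgebra F K) = ⊤ := eq_top_iff.mpr fun y _ => hall' y
    have h1 := Subalgebra.bot_eq_top_iff_finrank_eq_one.mp this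
    rw [h1] at hr
    exact Nat.not_prime_one hr
  obtain ⟨φ₂, hφ₂, hφ₂1⟩ := exists_functional hu₀P
  have hφ₂w : φ₂ w₁ = 0 := hφ₂ _ (Submodule.mem_span_singleton_self _)
  -- the functional
  obtain ⟨φ₀, hφ₀w, hφ₀u, hφ₀x⟩ : ∃ φ₀ : V →ₗ[K] K, φ₀ w₁ = 0 ∧ φ₀ u₀ = 1 ∧
      φ₀ x₀ ∉ (⊥ : Subalgebra F K) := by
    by_cases hmem : x₀ ∈ Submodule.span K {w₁} ⊔ Submodule.span K {u₀}
    · obtain ⟨a, ha, b, hb, hab⟩ := Submodule.mem_sup.mp hmem
      obtain ⟨a', rfl⟩ := Submodule.mem_span_singleton.mp ha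
      obtain ⟨b', rfl⟩ := Submodule.mem_span_singleton.mp hb
      refine ⟨φ₂, hφ₂w, hφ₂1, ?_⟩
      rw [← hab]
      simp only [map_add, map_smul, hφ₂w, hφ₂1, smul_eq_mul, mul_zero, mul_one, zero_add]
      intro hbot
      obtain ⟨f, hf⟩ := Algebra.mem_bot.mp hbot
      apply hall f
      -- x - f u = h (a' w₁)
      have h1 : x₀ - f • u₀ = a' • w₁ := by
        rw [← hab, ← hf, algebraMap_smul]
        abel
      have h2 : x - f • u = h.1 (a' • w₁) := by
        rw [← h1, map_sub, map_smul, hx₀, hu₀]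
        simp
      rw [h2]
      exact apply_mem_imU (smul_mem_kline (self_mem_kline w₁) a')
    · obtain ⟨φ₁, hφ₁, hφ₁1⟩ := exists_functional hmem
      have hφ₁w : φ₁ w₁ = 0 :=
        hφ₁ _ (Submodule.mem_sup_left (Submodule.mem_span_singleton_self _))
      have hφ₁u : φ₁ u₀ = 0 :=
        hφ₁ _ (Submodule.mem_sup_right (Submodule.mem_span_singleton_self _))
      refine ⟨φ₂ + (c₀ - φ₂ x₀) • φ₁, by simp [hφ₂w, hφ₁w], by simp [hφ₂1, hφ₁u], ?_⟩
      simp only [LinearMap.add_apply, LinearMap.smul_apply, hφ₁1, smul_eq_mul, mul_one]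
      simpa using hc₀
  have hx' : h.1 x₀ ∈ P := by
    rw [hx₀]
    simpa using hx
  exact hφ₀x (hc.mem_bot hM hr hφ₀w hu huR hφ₀u hx')

end Main

end Cfsg.Agent.Lib.ExtField.MaxPair
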