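import Cfsg.Agent.Lib.ExtField.Basic

/-!
# From one transvection of the right type to all transvections
-/

set_option autoImplicit false
set_option linter.unusedSectionVars false

open Module Cfsg.Agent.Lib.ExtField.Basic

namespace Cfsg.Agent.Lib.ExtField.Spread

variable {F K V : Type*} [Field F] [Field K] [Algebra F K] [AddCommGroup V] [Module F V]
  [Module K V] [IsScalarTower F K V]

/-! ### `K`-duals -/

/-- Any `F`-functional on `V` factors through a `K`-functional. -/
theorem exists_kdual [FiniteDimensional F K] (κ : K →ₗ[F] F) (hκ : κ ≠ 0) (ψ : V →ₗ[F] F) :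
    ∃ φ : V →ₗ[K] K, ∀ v, κ (φ v) = ψ v := by
  -- the pairing
  let ι : K →ₗ[F] (K →ₗ[F] F) :=
    { toFun := fun c => κ ∘ₗ (LinearMap.mulRight F c)
      map_add' := fun a b => by ext x; simp [mul_add]
      map_smul' := fun a b => by ext x; simp }
  have hinj : Function.Injective ι := by
    rw [injective_iff_map_eq_zero]
    intro c hc
    by_contra hc0
    apply hκ
    ext x
    have := congrArg (fun f : K →ₗ[F] F => f (x * c⁻¹)) hc
    simpa [ι, mul_assoc, inv_mul_cancel₀ hc0] using this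
  have hdim : finrank F K = finrank F (K →ₗ[F] F) := (Subspace.dual_finrank_eq).symm
  have hsurj : Function.Surjective ι :=
    (LinearMap.injective_iff_surjective_of_finrank_eq_finrank hdim).mp hinj
  -- the functional on K attached to x
  let θ : V → (K →ₗ[F] F) := fun x => ψ ∘ₗ ((LinearMap.toSpanSingleton K V x).restrictScalars F)
  choose fφ hfφ using fun x => hsurj (θ x)
  have hval : ∀ x b, κ (b * fφ x) = ψ (b • x) := by
    intro x b
    have := congrArg (fun f : K →ₗ[F] F => f b) (hfφ x)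
    simpa [ι, θ] using this
  refine ⟨{ toFun := fφ, map_add' := ?_, map_smul' := ?_ }, ?_⟩
  · intro x y
    apply hinj
    ext b
    simp only [ι, LinearMap.coe_comp, Function.comp_apply, LinearMap.mulRight_apply, LinearMap.coe_mk,
      AddHom.coe_mk]
    rw [hval, mul_add, map_add, hval, hval, smul_add, map_add]
  · intro a x
    apply hinj
    ext b
    simp only [ι, LinearMap.coe_comp, Function.comp_apply, LinearMap.mulRight_apply, LinearMap.coe_mk,
      AddHom.coe_mk, RingHom.id_apply, smul_eq_mul]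
    rw [hval, ← mul_assoc, hval, mul_smul]
  · intro v
    have := hval v 1
    simpa using this

/-! ### A subring containing all `(q-1)`-th powers -/

theorem subring_eq_top_of_pow [Finite K] (T : Subring K) (q : ℕ) (hq : 2 ≤ q)
    (hQ : q ^ 2 ≤ Nat.card K) (hT : ∀ x : K, x ≠ 0 → x ^ (q - 1) ∈ T) : T = ⊤ := by
  classical
  let _ := Fintype.ofFinite K
  by_contra hne
  obtain ⟨x, hx⟩ : ∃ x : K, x ∉ T := by
    by_contra hall
    push Not at hall
    exact hne (eq_top_iff.mpr fun y _ => hall y)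
  -- s² ≤ Q
  let _ : Fintype T := Fintype.ofFinite T
  set s := Fintype.card T with hs
  set Q := Fintype.card K with hQdef
  have h1 : s * s ≤ Q := by
    have hinj : Function.Injective (fun p : T × T => (p.1 : K) + p.2 * x) := by
      rintro ⟨a, b⟩ ⟨a', b'⟩ h
      simp only at h
      by_cases hbb : b = b'
      · subst hbb
        simp only [add_left_inj] at h
        rw [Prod.mk.injEq]
        exact ⟨Subtype.ext h, rfl⟩
      · exfalso
        apply hx
        have hne' : ((b : K) - b') ≠ 0 := by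
          rw [sub_ne_zero]
          exact fun h' => hbb (Subtype.ext h')
        have h2 : ((b : K) - b') * x = a' - a := by linear_combination h
        have h3 : x = ((b : K) - b')⁻¹ * (a' - a) := by
          rw [← h2, ← mul_assoc, inv_mul_cancel₀ hne', one_mul]
        rw [h3]
        -- inverses in finite subring
        have hinv : ∀ t ∈ T, t ≠ 0 → t⁻¹ ∈ T := by
          intro t ht ht0
          have hfin : IsOfFinOrder (Units.mk0 t ht0) := isOfFinOrder_of_finite _
          obtain ⟨n, hn, hn1⟩ := hfin.exists_pow_eq_one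
          have h4 : t ^ n = 1 := by
            have := congrArg Units.val hn1
            simpa using this
          have h5 : t⁻¹ = t ^ (n - 1) := by
            field_simp
            rw [← pow_succ']
            have : n - 1 + 1 = n := by omega
            rw [this, h4]
          rw [h5]
          exact T.pow_mem ht _
        exact T.mul_mem (hinv _ (T.sub_mem b.2 b'.2) hne') (T.sub_mem a'.2 a.2)
    have := Fintype.card_le_of_injective _ hinj
    rwa [Fintype.card_prod] at this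
  -- Q - 1 ≤ (q-1)(s-1)
  have hs1 : 1 ≤ s := Fintype.card_pos_iff.mpr ⟨⟨0, T.zero_mem⟩⟩
  have h2 : Q - 1 ≤ (q - 1) * (s - 1) := by
    let A : Finset K := Finset.univ.filter (fun y => y ≠ 0)
    have hA : A.card = Q - 1 := by
      simp only [A, Finset.filter_ne', Finset.card_erase_of_mem (Finset.mem_univ _), Finset.card_univ]
      rfl
    let B : Finset K := (Finset.univ.image (fun t : T => (t : K))).erase 0
    have hB : B.card = s - 1 := by
      simp only [B]
      rw [Finset.card_erase_of_mem]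
      · rw [Finset.card_image_of_injective _ Subtype.val_injective, Finset.card_univ]
      · simp only [Finset.mem_image, Finset.mem_univ, true_and]
        exact ⟨⟨0, T.zero_mem⟩, rfl⟩
    have hmaps : ∀ y ∈ A, y ^ (q - 1) ∈ B := by
      intro y hy
      have hy0 : y ≠ 0 := (Finset.mem_filter.mp hy).2
      simp only [B, Finset.mem_erase, Finset.mem_image, Finset.mem_univ, true_and]
      exact ⟨pow_ne_zero _ hy0, ⟨y ^ (q - 1), hT y hy0⟩, rfl⟩
    have hfib : ∀ b ∈ B, (A.filter (fun y => y ^ (q - 1) = b)).card ≤ q - 1 := by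
      intro b _
      have hq1 : 0 < q - 1 := by omega
      have h3 := Polynomial.card_nthRoots (q - 1) b
      have h4 : (A.filter (fun y => y ^ (q - 1) = b)) ⊆ (Polynomial.nthRoots (q - 1) b).toFinset := by
        intro y hy
        rw [Multiset.mem_toFinset, Polynomial.mem_nthRoots hq1]
        exact (Finset.mem_filter.mp hy).2
      exact (Finset.card_le_card h4).trans ((Multiset.toFinset_card_le _).trans h3)
    have := Finset.card_le_mul_card_image_of_maps_to hmaps (q - 1) hfib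
    rwa [hA, hB] at this
  -- numerics
  have hQ' : q ^ 2 ≤ Q := by
    rw [hQdef, ← Nat.card_eq_fintype_card]
    exact hQ
  obtain ⟨a, rfl⟩ : ∃ a, q = a + 2 := ⟨q - 2, by omega⟩
  obtain ⟨b, hb⟩ : ∃ b, s = b + 1 := ⟨s - 1, by omega⟩
  rw [hb] at h1 h2
  simp only [Nat.add_sub_cancel] at h2
  have e1 : a + 2 - 1 = a + 1 := by omega
  rw [e1] at h2
  obtain ⟨c, hc⟩ : ∃ c, Q = c + 1 := ⟨Q - 1, by
    have : 1 ≤ Q := by nlinarith
    omega⟩
  rw [hc] at h1 h2 hQ'
  simp only [Nat.add_sub_cancel] at h2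
  -- c ≤ (a+1) b, (b+1)² ≤ c + 1, (a+2)² ≤ c+1
  have h5 : b * b + 2 * b ≤ c := by nlinarith
  have h6 : c * c ≤ (a + 1) * (a + 1) * (b * b) := by
    calc c * c ≤ ((a + 1) * b) * ((a + 1) * b) := Nat.mul_le_mul h2 h2
      _ = _ := by ring
  have h7 : c ≤ (a + 1) * (a + 1) ∨ c = 0 := by
    by_cases hc0 : c = 0
    · right; exact hc0
    · left
      by_contra hlt
      push Not at hlt
      have hcpos : 0 < c := Nat.pos_of_ne_zero hc0
      have h8 : (a + 1) * (a + 1) * (b * b) < c * (b * b + 1) := by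
        calc (a + 1) * (a + 1) * (b * b) ≤ c * (b * b) := Nat.mul_le_mul_right _ hlt.le
          _ < c * (b * b + 1) := by nlinarith
      have h9 : c * (b * b) + c ≤ c * c := by
        nlinarith
      nlinarith
  rcases h7 with h7 | h7
  · nlinarith
  · subst h7
    nlinarith

/-! ### Dilations -/

section Dil

/-- The `K`-dilation `v ↦ v + (c-1) φ(v) b`. -/
def dilMap (φ : V →ₗ[K] K) (b : V) (c : K) : Module.End F V :=
  1 + kmap ((c - 1) • φ) b

theorem dilMap_apply (φ : V →ₗ[K] K) (b : V) (c : K) (v : V) :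
    (dilMap (F := F) φ b c) v = v + ((c - 1) * φ v) • b := by
  simp [dilMap]

theorem dilMap_mul {φ : V →ₗ[K] K} {b : V} (hb : φ b = 1) (c d : K) :
    (dilMap (F := F) φ b c) * (dilMap (F := F) φ b d) = dilMap φ b (c * d) := by
  ext v
  simp only [Module.End.mul_apply, dilMap_apply, map_add, map_smul, hb, smul_eq_mul, mul_one, add_assoc,
    ← add_smul]
  congr 2
  ring

theorem dilMap_one (φ : V →ₗ[K] K) (b : V) : dilMap (F := F) φ b 1 = 1 := by
  ext v
  simp [dilMap_apply]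

/-- Dilations as a group homomorphism. -/
def dilHom (φ : V →ₗ[K] K) (b : V) (hb : φ b = 1) : Kˣ →* (Module.End F V)ˣ where
  toFun c :=
    { val := dilMap φ b c
      inv := dilMap φ b (c⁻¹ : Kˣ)
      val_inv := by rw [dilMap_mul hb, ← Units.val_mul, mul_inv_cancel, Units.val_one, dilMap_one]
      inv_val := by rw [dilMap_mul hb, ← Units.val_mul, inv_mul_cancel, Units.val_one, dilMap_one] }
  map_one' := by
    apply Units.ext
    simp [dilMap_one]
  map_mul' c d := by
    apply Units.ext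
    simp [dilMap_mul hb]

theorem dilHom_apply {φ : V →ₗ[K] K} {b : V} (hb : φ b = 1) (c : Kˣ) (v : V) :
    (dilHom (F := F) φ b hb c).1 v = v + (((c : K) - 1) * φ v) • b :=
  dilMap_apply φ b c v

theorem dilHom_inv_apply {φ : V →ₗ[K] K} {b : V} (hb : φ b = 1) (c : Kˣ) (v : V) :
    (dilHom (F := F) φ b hb c)⁻¹.1 v = v + ((((c⁻¹ : Kˣ) : K) - 1) * φ v) • b := by
  rw [← map_inv, dilHom_apply]

theorem dilHom_semi {φ : V →ₗ[K] K} {b : V} (hb : φ b = 1) (c : Kˣ) :
    IsSemi K (dilHom (F := F) φ b hb c) := by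
  intro a
  refine ⟨a, fun v => ?_⟩
  simp only [dilHom_apply, map_smul, smul_eq_mul, smul_add, mul_smul]
  congr 1
  rw [smul_comm]

theorem dilHom_pow_mem [Finite F] {H : Subgroup (Module.End F V)ˣ} (hM : ContainsM K H)
    {φ : V →ₗ[K] K} {b : V} (hb : φ b = 1) (y : Kˣ) :
    dilHom (F := F) φ b hb (y ^ (Nat.card F - 1)) ∈ H := by
  classical
  let _ := Fintype.ofFinite F
  apply hM
  · exact dilHom_semi hb _
  · rw [← map_inv]
    exact dilHom_semi hb _
  · rw [map_pow, Units.val_pow_eq_pow_val, map_pow, Nat.card_eq_fintype_card]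
    apply FiniteField.pow_card_sub_one_eq_one
    exact (LinearMap.isUnit_det _ (Units.isUnit _)).ne_zero

end Dil

/-! ### The rank one maps -/

section Tv

/-- The map `v ↦ κ(φ v) • w`. -/
def tv (κ : K →ₗ[F] F) (φ : V →ₗ[K] K) (w : V) : Module.End F V :=
  (κ ∘ₗ φ.restrictScalars F).smulRight w

@[simp] theorem tv_apply (κ : K →ₗ[F] F) (φ : V →ₗ[K] K) (w v : V) :
    tv κ φ w v = κ (φ v) • w := rfl

theorem tv_mul_tv {κ : K →ₗ[F] F} {φ φ' : V →ₗ[K] K} {w w' : V} (h : φ w' = 0) :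
    tv κ φ w * tv κ φ' w' = 0 := by
  ext v
  simp [h]

variable [Finite F] [FiniteDimensional F K]

/-- Step a: all multiples of a `K`-functional. -/
theorem inH_tv_smul {H : Subgroup (Module.End F V)ˣ} (hM : ContainsM K H)
    (hr : 2 ≤ finrank F K) (κ : K →ₗ[F] F) {φ₀ : V →ₗ[K] K} {w₀ b : V}
    (hφw : φ₀ w₀ = 0) (hb : φ₀ b = 1) (h1 : InH H (tv κ φ₀ w₀)) (e : K) :
    InH H (tv κ (e • φ₀) w₀) := by
  classical
  have : Finite K := Module.finite_of_finite F
  have hmul0 : ∀ a a' : K, tv κ (a • φ₀) w₀ * tv κ (a' • φ₀) w₀ = 0 := by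
    intro a a'
    apply tv_mul_tv
    simp [hφw]
  -- the subring of multipliers
  let T : Subring K :=
    { carrier := {c | ∀ a : K, InH H (tv κ (a • φ₀) w₀) → InH H (tv κ ((c * a) • φ₀) w₀)}
      mul_mem' := by
        intro c d hc hd a ha
        have := hc _ (hd a ha)
        rwa [← mul_assoc] at this
      one_mem' := by
        intro a ha
        rwa [one_mul]
      add_mem' := by
        intro c d hc hd a ha
        have h3 := (hc a ha).add (hd a ha) (hmul0 _ _) (hmul0 _ _)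
        refine h3.of_eq ?_
        ext v
        simp [add_mul, add_smul]
      zero_mem' := by
        intro a _
        refine (InH.zero H).of_eq ?_
        ext v
        simp
      neg_mem' := by
        intro c hc a ha
        refine (hc a ha).neg.of_eq ?_
        ext v
        simp [neg_mul, neg_smul] }
  have hT : ∀ x : K, x ≠ 0 → x ^ (Nat.card F - 1) ∈ T := by
    intro x hx a ha
    -- conjugation by a dilation
    let y : Kˣ := (Units.mk0 x hx)⁻¹
    have hg := dilHom_pow_mem (F := F) hM hb y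
    have h2 := ha.conj hg
    refine h2.of_eq ?_
    ext v
    set g := dilHom (F := F) φ₀ b hb (y ^ (Nat.card F - 1)) with hgdef
    have hgw : g.1 w₀ = w₀ := by
      rw [hgdef, dilHom_apply, hφw]
      simp
    have hφg : φ₀ (g⁻¹.1 v) = (x ^ (Nat.card F - 1)) * φ₀ v := by
      rw [hgdef, dilHom_inv_apply]
      simp only [map_add, map_smul, hb, smul_eq_mul, mul_one, inv_pow, inv_inv, y]
      simp only [Units.val_pow_eq_pow_val, Units.val_mk0]
      ring
    simp only [Module.End.mul_apply, tv_apply, LinearMap.smul_apply, smul_eq_mul, map_smul, hgw, hφg]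
    congr 2
    ring
  have hTtop : T = ⊤ := by
    apply subring_eq_top_of_pow T (Nat.card F) Finite.one_lt_card
    · have h3 : Nat.card K = Nat.card F ^ finrank F K := Module.natCard_eq_pow_finrank
      rw [h3]
      exact Nat.pow_le_pow_right (by have := (Finite.one_lt_card (α := F)); omega) hr
    · exact hT
  have hmem : e ∈ T := by rw [hTtop]; trivial
  have h4 := hmem 1 (by rwa [one_smul])
  rwa [mul_one] at h4

/-- Step c: all pairs `(φ, w)` with `φ w = 0`. -/
theorem inH_tv_all {H : Subgroup (Module.End F V)ˣ} (hM : ContainsM K H)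
    (hm : ∀ w : V, ∃ z, z ∉ Submodule.span K {w})
    (hr : 2 ≤ finrank F K) (κ : K →ₗ[F] F) {φ₀ : V →ₗ[K] K} {w₀ : V} (hφ₀ : φ₀ ≠ 0) (hw₀ : w₀ ≠ 0)
    (hφw : φ₀ w₀ = 0) (h1 : InH H (tv κ φ₀ w₀)) {φ : V →ₗ[K] K} {w : V} (hφ : φ w = 0) :
    InH H (tv κ φ w) := by
  classical
  by_cases hw : w = 0
  · subst hw
    refine (InH.zero H).of_eq ?_
    ext v
    simp
  by_cases hφ0 : φ = 0
  · subst hφ0
    refine (InH.zero H).of_eq ?_
    ext v
    simp
  -- normalise φ₀
  obtain ⟨x₀, hx₀⟩ : ∃ x₀, φ₀ x₀ ≠ 0 := by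
    by_contra hall
    push Not at hall
    exact hφ₀ (LinearMap.ext hall)
  have hb : φ₀ ((φ₀ x₀)⁻¹ • x₀) = 1 := by
    simp [inv_mul_cancel₀ hx₀]
  have hall := inH_tv_smul hM hr κ hφw hb h1
  -- move w₀ to w
  obtain ⟨g, hg, hgw, hg1, hg2⟩ := exists_mem_apply_eq hM hm hw₀ hw
  let φ₁ : V →ₗ[K] K :=
    { toFun := fun v => φ₀ (g⁻¹.1 v)
      map_add' := fun a b => by simp
      map_smul' := fun c v => by
        simp [hg2] }
  have hφ₁ : ∀ v, φ₁ v = φ₀ (g⁻¹.1 v) := fun v => rfl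
  have hφ₁w : φ₁ w = 0 := by
    rw [hφ₁, ← hgw, inv_val_apply, hφw]
  have hφ₁ne : φ₁ ≠ 0 := by
    intro h
    apply hx₀
    have := congrArg (fun f : V →ₗ[K] K => f (g.1 x₀)) h
    simpa [hφ₁] using this
  -- find x' with φ₁ x' ≠ 0 and φ x' ≠ 0
  obtain ⟨x', hx'1, hx'2⟩ : ∃ x', φ₁ x' ≠ 0 ∧ φ x' ≠ 0 := by
    obtain ⟨x₁, hx₁⟩ : ∃ x₁, φ₁ x₁ ≠ 0 := by
      by_contra hall
      push Not at hall
      exact hφ₁ne (LinearMap.ext hall)
    obtain ⟨x₂, hx₂⟩ : ∃ x₂, φ x₂ ≠ 0 := by
      by_contra hall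
      push Not at hall
      exact hφ0 (LinearMap.ext hall)
    by_cases h1 : φ x₁ = 0
    · by_cases h2 : φ₁ x₂ = 0
      · exact ⟨x₁ + x₂, by simpa [h2] using hx₁, by simpa [h1] using hx₂⟩
      · exact ⟨x₂, h2, hx₂⟩
    · exact ⟨x₁, hx₁, h1⟩
  -- normalise
  set x'' := (φ₁ x')⁻¹ • x' with hx''
  have hx''1 : φ₁ x'' = 1 := by
    simp [hx'', inv_mul_cancel₀ hx'1]
  have hbb : φ x'' ≠ 0 := by
    simp [hx'', hx'2, hx'1]
  set b := φ x'' with hbdef
  let χ : V →ₗ[K] K := φ₁ - b⁻¹ • φ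
  have hχ : χ x'' = 0 := by
    simp [χ, hx''1, ← hbdef, inv_mul_cancel₀ hbb]
  have hχw : χ w = 0 := by
    simp [χ, hφ₁w, hφ]
  let g₂ := uni (kmap χ x'') (kmap_sq (F := F) hχ)
  have hg₂ : g₂ ∈ H := kroot_mem hM hχ
  have hh := (hall b).conj (H.mul_mem hg₂ hg)
  refine hh.of_eq ?_
  ext v
  have h3 : ((g₂ * g).1 * tv κ (b • φ₀) w₀ * (g₂ * g)⁻¹.1) v = κ (φ v) • w := by
    simp only [Module.End.mul_apply, mul_inv_rev, tv_apply, LinearMap.smul_apply, smul_eq_mul,
      Units.val_mul, map_smul]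
    have h4 : g⁻¹.1 (g₂⁻¹.1 v) = g⁻¹.1 (v - χ v • x'') := rfl
    have h5 : φ₀ (g⁻¹.1 (v - χ v • x'')) = φ₁ (v - χ v • x'') := rfl
    rw [h4, h5]
    have h6 : φ₁ (v - χ v • x'') = b⁻¹ * φ v := by
      simp only [map_sub, map_smul, smul_eq_mul, hx''1, mul_one]
      simp [χ]
    rw [h6, ← mul_assoc, mul_inv_cancel₀ hbb, one_mul, hgw]
    have h7 : g₂.1 w = w := by
      simp [g₂, hχw]
    rw [h7]
  exact h3.symm

/-- Step d: all transvections. -/
theorem inH_smulRight {H : Subgroup (Module.End F V)ˣ} (hM : ContainsM K H)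
    (hm : ∀ w : V, ∃ z, z ∉ Submodule.span K {w})
    (hr : 2 ≤ finrank F K) (κ : K →ₗ[F] F) (hκ : κ ≠ 0)
    (hall : ∀ (φ : V →ₗ[K] K) (w : V), φ w = 0 → InH H (tv κ φ w))
    (ψ : V →ₗ[F] F) (w : V) (hψ : ψ w = 0) : InH H (ψ.smulRight w) := by
  classical
  obtain ⟨φ, hφ⟩ := exists_kdual κ hκ ψ
  have hψφ : ψ.smulRight w = tv κ φ w := by
    ext v
    simp [hφ]
  rw [hψφ]
  by_cases hφw : φ w = 0
  · exact hall φ w hφw
  -- w₂ in the kernel of φ
  obtain ⟨z, hz⟩ := hm w
  have hw0 : w ≠ 0 := by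
    rintro rfl
    simp at hφw
  set w₂ := z - (φ z / φ w) • w with hw₂
  have hφw₂ : φ w₂ = 0 := by
    simp [hw₂, div_mul_cancel₀ _ hφw]
  have hw₂0 : w₂ ∉ Submodule.span K {w} := by
    intro hmem
    apply hz
    have : z = w₂ + (φ z / φ w) • w := by rw [hw₂]; abel
    rw [this]
    exact Submodule.add_mem _ hmem (Submodule.smul_mem _ _ (Submodule.mem_span_singleton_self w))
  obtain ⟨χ, hχ, hχ1⟩ := exists_functional hw₂0
  obtain ⟨t, ht⟩ : ∃ t : K, κ t = 1 := by
    obtain ⟨a, ha⟩ : ∃ a, κ a ≠ 0 := by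
      by_contra hall
      push Not at hall
      exact hκ (LinearMap.ext hall)
    refine ⟨(κ a)⁻¹ • a, ?_⟩
    simp [inv_mul_cancel₀ ha]
  let φ₁ : V →ₗ[K] K := t • χ
  have hφ₁w : φ₁ w = 0 := by
    simp [φ₁, hχ w (Submodule.mem_span_singleton_self w)]
  have hφ₁w₂ : κ (φ₁ w₂) = 1 := by
    simp [φ₁, hχ1, ht]
  have hA := hall φ₁ w hφ₁w
  have hB := hall φ w₂ hφw₂
  have hBA : tv κ φ w₂ * tv κ φ₁ w = 0 := by
    ext v
    simp [hφ, hψ]
  have hAB : tv κ φ₁ w * tv κ φ w₂ = tv κ φ w := by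
    ext v
    simp [hφ₁w₂]
  refine inH_of_comm hA hB ?_ ?_
  · have h1 : tv κ φ₁ w * tv κ φ w₂ * tv κ φ₁ w = 0 := by rw [mul_assoc, hBA, mul_zero]
    have h2 : tv κ φ₁ w * tv κ φ w₂ * tv κ φ₁ w * tv κ φ w₂ = 0 := by rw [h1, zero_mul]
    rw [h2, h1, hBA, zero_mul, hAB]
    simp
  · ext v
    simp [hφ, hψ]

/-- Main result of this file: a transvection `ψ ⊗ w` with `ψ` vanishing on `K w` gives all
transvections. -/
theorem inH_all_of_type1 {H : Subgroup (Module.End F V)ˣ} (hM : ContainsM K H)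
    (hm : ∀ w : V, ∃ z, z ∉ Submodule.span K {w}) (hr : 2 ≤ finrank F K)
    {ψ₀ : V →ₗ[F] F} {w₀ : V} (hψ₀ : ψ₀ ≠ 0) (hw₀ : w₀ ≠ 0) (hψw : ∀ c : K, ψ₀ (c • w₀) = 0)
    (h₀ : InH H (ψ₀.smulRight w₀)) (ψ : V →ₗ[F] F) (w : V) (hψ : ψ w = 0) :
    InH H (ψ.smulRight w) := by
  classical
  -- a nonzero functional on K
  obtain ⟨κ, hκ⟩ : ∃ κ : K →ₗ[F] F, κ ≠ 0 := by
    have hnt : Nontrivial K := inferInstance
    have : Nontrivial (K →ₗ[F] F) := inferInstance
    exact exists_ne 0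
  obtain ⟨φ₀, hφ₀⟩ := exists_kdual κ hκ ψ₀
  have hφ₀ne : φ₀ ≠ 0 := by
    rintro rfl
    apply hψ₀
    ext v
    rw [← hφ₀]
    simp
  have hφw : φ₀ w₀ = 0 := by
    by_contra hne
    apply hκ
    ext a
    have := hψw (a * (φ₀ w₀)⁻¹)
    rw [← hφ₀, map_smul, smul_eq_mul, mul_assoc, inv_mul_cancel₀ hne, mul_one] at this
    simpa using this
  have h₁ : InH H (tv κ φ₀ w₀) := h₀.of_eq (by
    ext v
    simp [hφ₀])
  have hall : ∀ (φ : V →ₗ[K] K) (w : V), φ w = 0 → InH H (tv κ φ w) := fun φ w h =>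
    inH_tv_all hM hm hr κ hφ₀ne hw₀ hφw h₁ h
  exact inH_smulRight hM hm hr κ hκ hall ψ w hψ

end Tv

end Cfsg.Agent.Lib.ExtField.Spread
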