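import Cfsg.Agent.Lib.ExtField.Main
import Cfsg.Agent.Lib.Geo.Basic

/-!
# Transport to matrix groups
-/

set_option autoImplicit false
set_option linter.unusedSectionVars false
set_option linter.style.haveILetI false
set_option linter.unusedVariables false

open Module Cfsg Cfsg.Geo Cfsg.Agent.Lib.ExtField.Basic Cfsg.Agent.Lib.ExtField.Spread
  Cfsg.Agent.Lib.ExtField.Main Cfsg.Agent.Lib.Geo.Basic
open scoped Matrix MatrixGroups

namespace Cfsg.Agent.Lib.ExtField.Top

variable {F K : Type*} [Field F] [Field K] [Algebra F K] {n : ℕ}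

/-- The isomorphism between matrix units and the units of the endomorphism ring. -/
noncomputable def eL : GL (Fin n) F ≃* (Module.End F (Fin n → F))ˣ :=
  Units.mapEquiv (Matrix.toLinAlgEquiv' (R := F) (n := Fin n)).toMulEquiv

theorem eL_apply (g : GL (Fin n) F) (v : Fin n → F) :
    (eL g).1 v = (g : Matrix (Fin n) (Fin n) F) *ᵥ v := by
  simp [eL, Matrix.toLinAlgEquiv'_apply]

theorem eL_inv_apply (g : GL (Fin n) F) (v : Fin n → F) :
    (eL g)⁻¹.1 v = ((g⁻¹ : GL (Fin n) F) : Matrix (Fin n) (Fin n) F) *ᵥ v := by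
  rw [← map_inv, eL_apply]

theorem det_eL (g : GL (Fin n) F) : LinearMap.det (eL g).1 = (g : Matrix (Fin n) (Fin n) F).det := by
  have : (eL g).1 = Matrix.toLin' (g : Matrix (Fin n) (Fin n) F) := by
    ext v
    simp [eL_apply]
  rw [this, LinearMap.det_toLin']

/-- The dot product as a linear map. -/
def dotF (φ : Fin n → F) : (Fin n → F) →ₗ[F] F where
  toFun v := φ ⬝ᵥ v
  map_add' := dotProduct_add φ
  map_smul' c v := by simp

theorem dotF_apply (φ v : Fin n → F) : dotF φ v = φ ⬝ᵥ v := rfl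

/-- The vector of a functional. -/
def vecF (ψ : (Fin n → F) →ₗ[F] F) : Fin n → F := fun j => ψ (Pi.single j 1)

theorem vecF_dot (ψ : (Fin n → F) →ₗ[F] F) (v : Fin n → F) : vecF ψ ⬝ᵥ v = ψ v := by
  have : ψ v = ψ (∑ j, v j • Pi.single j 1) := by
    congr 1
    ext k
    simp [Finset.sum_apply, Pi.single_apply]
  rw [this, map_sum]
  simp [vecF, dotProduct, mul_comm]

section

variable [Fintype F] [Module K (Fin n → F)] [IsScalarTower F K (Fin n → F)] [FiniteDimensional F K]

theorem sl_le (hr : (finrank F K).Prime) (hm : ∀ w : Fin n → F, ∃ z, z ∉ Submodule.span K {w})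
    (H : Subgroup (GL (Fin n) F))
    (hM : ∀ x : GL (Fin n) F, IsSemi K (eL x) → IsSemi K (eL x)⁻¹ →
      (x : Matrix (Fin n) (Fin n) F).det = 1 → x ∈ H)
    {g₀ : GL (Fin n) F} (hg₀ : g₀ ∈ H) (hs : ¬ (IsSemi K (eL g₀) ∧ IsSemi K (eL g₀)⁻¹)) :
    specialLinear (Fin n) F ≤ H := by
  classical
  let H' : Subgroup (Module.End F (Fin n → F))ˣ := H.comap eL.symm.toMonoidHom
  have hmem' : ∀ g, g ∈ H' ↔ eL.symm g ∈ H := fun g => Iff.rfl
  have hM' : ContainsM K H' := by
    intro g h1 h2 h3
    rw [hmem']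
    apply hM
    · simpa using h1
    · simpa using h2
    · rw [← det_eL]
      simpa using h3
  obtain ⟨h₁, hh₁, hs₁⟩ : ∃ h₁ ∈ H', ¬ IsSemi K h₁ := by
    by_cases h : IsSemi K (eL g₀)
    · refine ⟨(eL g₀)⁻¹, ?_, fun h' => hs ⟨h, h'⟩⟩
      rw [hmem', map_inv, MulEquiv.symm_apply_apply]
      exact H.inv_mem hg₀
    · refine ⟨eL g₀, ?_, h⟩
      rw [hmem', MulEquiv.symm_apply_apply]
      exact hg₀
  refine specialLinear_le_of_transv H fun u φ huφ => ?_
  obtain ⟨hz, hmem⟩ := all_transvections hr hm hM' hh₁ hs₁ (dotF φ) u huφ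
  rw [hmem'] at hmem
  have : eL (transv u φ huφ) = uni ((dotF φ).smulRight u) hz := by
    apply Units.ext
    refine LinearMap.ext fun v => ?_
    rw [eL_apply, transv_mulVec]
    rfl
  rw [← this, MulEquiv.symm_apply_apply] at hmem
  exact hmem

/-- The determinant of a dilation. -/
theorem det_dilMap {V : Type*} [AddCommGroup V] [Module F V] [Module K V] [IsScalarTower F K V]
    [FiniteDimensional F V] (φ : V →ₗ[K] K) (b : V) (hb : φ b = 1) (c : K) :
    LinearMap.det (dilMap (F := F) φ b c) = Algebra.norm F c := by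
  classical
  let W : Submodule F V := (LinearMap.ker φ).restrictScalars F
  have hW : ∀ v, v - φ v • b ∈ W := by
    intro v
    change φ (v - φ v • b) = 0
    simp [hb]
  let E : V ≃ₗ[F] K × W :=
    { toFun := fun v => (φ v, ⟨v - φ v • b, hW v⟩)
      map_add' := fun x y => by
        refine Prod.ext (map_add φ x y) (Subtype.ext ?_)
        change x + y - φ (x + y) • b = (x - φ x • b) + (y - φ y • b)
        rw [map_add, add_smul]
        abel
      map_smul' := fun f x => by
        refine Prod.ext (LinearMap.map_smul_of_tower φ f x) (Subtype.ext ?_)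
        change f • x - φ (f • x) • b = f • (x - φ x • b)
        rw [LinearMap.map_smul_of_tower, smul_sub, smul_assoc]
      invFun := fun p => p.1 • b + (p.2 : V)
      left_inv := fun v => by simp
      right_inv := fun p => by
        obtain ⟨x, w⟩ := p
        have hw : φ (w : V) = 0 := w.2
        refine Prod.ext ?_ (Subtype.ext ?_)
        · simp [hb, hw]
        · simp [hb, hw] }
  have hE : ∀ v, E v = (φ v, ⟨v - φ v • b, hW v⟩) := fun v => rfl
  have hEs : ∀ (x : K) (w : W), E.symm (x, w) = x • b + (w : V) := by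
    intro x w
    rfl
  have key : (E : V →ₗ[F] K × W) ∘ₗ dilMap (F := F) φ b c ∘ₗ (E.symm : K × W →ₗ[F] V) =
      (LinearMap.mulLeft F c).prodMap LinearMap.id := by
    refine LinearMap.ext fun p => ?_
    obtain ⟨x, w⟩ := p
    have hw : φ (w : V) = 0 := w.2
    simp only [LinearMap.comp_apply, LinearEquiv.coe_coe, hEs, dilMap_apply, hE,
      LinearMap.prodMap_apply, LinearMap.mulLeft_apply, LinearMap.id_apply]
    refine Prod.ext ?_ (Subtype.ext ?_)
    · simp only [map_add, map_smul, hb, hw, smul_eq_mul, mul_one, add_zero]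
      ring
    · simp only [map_add, map_smul, hb, hw, smul_eq_mul, mul_one, add_zero]
      rw [add_smul]
      abel
  rw [← LinearMap.det_conj (dilMap (F := F) φ b c) E, key, LinearMap.det_prodMap, LinearMap.det_id,
    mul_one]
  rfl

/-- Main theorem for an abstract field acting on `F^n`. -/
theorem abstract_main (hr : (finrank F K).Prime)
    (hm : ∀ w : Fin n → F, ∃ z, z ∉ Submodule.span K {w}) (N : Subgroup (GL (Fin n) F))
    (hN : ∀ g, g ∈ N ↔ IsSemi K (eL g) ∧ IsSemi K (eL g)⁻¹) :
    IsCoatom N ∧ IsMaximalIn (specialLinear (Fin n) F) (N ⊓ specialLinear (Fin n) F) := by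
  classical
  have : Finite K := Module.finite_of_finite F
  have hsl : ∀ H : Subgroup (GL (Fin n) F), N ⊓ specialLinear (Fin n) F ≤ H →
      ∀ g₀ ∈ H, g₀ ∉ N → specialLinear (Fin n) F ≤ H := by
    intro H hH g₀ hg₀ hg₀N
    refine sl_le hr hm H ?_ hg₀ (fun h => hg₀N ((hN g₀).mpr h))
    intro x h1 h2 h3
    exact hH ⟨(hN x).mpr ⟨h1, h2⟩, (mem_specialLinear_iff x).mpr h3⟩
  -- nonzero vector
  obtain ⟨u, hu⟩ := hm 0
  have hu0 : u ≠ 0 := by
    rintro rfl
    exact hu (Submodule.zero_mem _)
  obtain ⟨w, hw⟩ := hm u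
  obtain ⟨c₀, hc₀⟩ : ∃ c₀ : K, c₀ ∉ (⊥ : Subalgebra F K) := by
    by_contra hall
    push Not at hall
    have : (⊥ : Subalgebra F K) = ⊤ := eq_top_iff.mpr fun y _ => hall y
    have h1 := Subalgebra.bot_eq_top_iff_finrank_eq_one.mp this
    rw [h1] at hr
    exact Nat.not_prime_one hr
  -- a transvection outside N
  obtain ⟨τ, hτSL, hτN⟩ : ∃ τ ∈ specialLinear (Fin n) F, τ ∉ N := by
    have hx : c₀ • u ∉ Submodule.span F {u, w} := by
      intro hmem
      obtain ⟨a, b, hab⟩ := Submodule.mem_span_pair.mp hmem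
      by_cases hb : b = 0
      · subst hb
        apply hc₀
        rw [Algebra.mem_bot]
        refine ⟨a, ?_⟩
        have h1 : (algebraMap F K a - c₀) • u = 0 := by
          rw [sub_smul, algebraMap_smul, ← hab]
          simp
        have h2 := (smul_eq_zero.mp h1).resolve_right hu0
        exact sub_eq_zero.mp h2
      · apply hw
        have e : w = (algebraMap F K b⁻¹ * (c₀ - algebraMap F K a)) • u := by
          rw [mul_smul, algebraMap_smul, sub_smul, algebraMap_smul, ← hab]
          simp [hb, smul_smul]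
        rw [e]
        exact Submodule.smul_mem _ _ (Submodule.mem_span_singleton_self u)
    obtain ⟨ψ, hψ, hψ1⟩ := exists_functional hx
    have hψu : ψ u = 0 := hψ _ (Submodule.subset_span (by simp))
    have hψw : ψ w = 0 := hψ _ (Submodule.subset_span (by simp))
    have hdot : vecF ψ ⬝ᵥ w = 0 := by rw [vecF_dot, hψw]
    refine ⟨transv w (vecF ψ) hdot, transv_mem_specialLinear _ _ _, fun hmem => ?_⟩
    obtain ⟨c', hc'⟩ := ((hN _).mp hmem).1 c₀
    have h1 := hc' u
    rw [eL_apply, eL_apply, transv_mulVec, transv_mulVec, vecF_dot, vecF_dot, hψ1, hψu, one_smul,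
      zero_smul, add_zero] at h1
    apply hw
    have e : w = (c' - c₀) • u := by
      rw [sub_smul, ← h1]
      abel
    rw [e]
    exact Submodule.smul_mem _ _ (Submodule.mem_span_singleton_self u)
  -- determinants
  have hdet : ∀ δ : Fˣ, ∃ y ∈ N, Matrix.GeneralLinearGroup.det y = δ := by
    intro δ
    have hu' : u ∉ (⊥ : Submodule K (Fin n → F)) := by
      simpa using hu0
    obtain ⟨φ, -, hφ⟩ := exists_functional hu'
    obtain ⟨c, hc⟩ := FiniteField.norm_surjective F K (δ : F)
    have hc0 : c ≠ 0 := by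
      rintro rfl
      rw [Algebra.norm_zero] at hc
      exact δ.ne_zero hc.symm
    let g := dilHom (F := F) φ u hφ (Units.mk0 c hc0)
    refine ⟨eL.symm g, ?_, ?_⟩
    · rw [hN, MulEquiv.apply_symm_apply]
      refine ⟨dilHom_semi _ _, ?_⟩
      rw [← map_inv]
      exact dilHom_semi _ _
    · apply Units.ext
      rw [Matrix.GeneralLinearGroup.val_det_apply, ← det_eL, MulEquiv.apply_symm_apply, ← hc]
      exact det_dilMap φ u hφ c
  constructor
  · refine ⟨fun h => hτN (h ▸ Subgroup.mem_top τ), fun H hH => ?_⟩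
    obtain ⟨g₀, hg₀, hg₀N⟩ := SetLike.exists_of_lt hH
    have hSL := hsl H (inf_le_left.trans hH.le) g₀ hg₀ hg₀N
    rw [eq_top_iff]
    intro x _
    obtain ⟨y, hy, hyd⟩ := hdet (Matrix.GeneralLinearGroup.det x)
    have h1 : x * y⁻¹ ∈ specialLinear (Fin n) F := by
      change x * y⁻¹ ∈ (Matrix.GeneralLinearGroup.det : GL (Fin n) F →* Fˣ).ker
      rw [MonoidHom.mem_ker, map_mul, map_inv, hyd, mul_inv_cancel]
    have h2 := H.mul_mem (hSL h1) (hH.le hy)
    simpa using h2
  · refine isMaximalIn_of_forall ?_ ?_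
    · refine lt_of_le_of_ne inf_le_right ?_
      intro h
      have : τ ∈ N ⊓ specialLinear (Fin n) F := by rw [h]; exact hτSL
      exact hτN this.1
    · intro M hM hMS g hg hgN
      refine hsl M hM g hg fun h => hgN ⟨h, hMS hg⟩

end

/-- `K` as a field. -/
theorem isField_of_isFieldSubalgebra {r : ℕ} (hn : 0 < n)
    {K : Subalgebra F (Matrix (Fin n) (Fin n) F)} (hK : IsFieldSubalgebra r K) : IsField K := by
  haveI : Nonempty (Fin n) := ⟨⟨0, hn⟩⟩
  refine ⟨⟨0, 1, ?_⟩, ?_, ?_⟩
  · exact zero_ne_one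
  · intro x y
    exact Subtype.ext (hK.comm x.1 x.2 y.1 y.2)
  · intro x hx
    obtain ⟨y, hy, hxy⟩ := hK.inv x.1 x.2 (fun h => hx (Subtype.ext h))
    exact ⟨⟨y, hy⟩, Subtype.ext hxy⟩

/-- The conjugation description of the normalizer. -/
theorem mem_norm_iff (K : Subalgebra F (Matrix (Fin n) (Fin n) F)) (g : GL (Fin n) F) :
    g ∈ subalgebraNormalizer K ↔
      (∀ c ∈ K, (g : Matrix (Fin n) (Fin n) F) * c * ((g⁻¹ : GL (Fin n) F) : Matrix _ _ F) ∈ K) ∧
      (∀ c ∈ K, ((g⁻¹ : GL (Fin n) F) : Matrix _ _ F) * c * (g : Matrix (Fin n) (Fin n) F) ∈ K) := by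
  constructor
  · intro h
    refine ⟨fun c hc => (h c).mp hc, fun c hc => (h _).mpr ?_⟩
    have : (g : Matrix (Fin n) (Fin n) F) * (((g⁻¹ : GL (Fin n) F) : Matrix _ _ F) * c *
        (g : Matrix (Fin n) (Fin n) F)) * ((g⁻¹ : GL (Fin n) F) : Matrix _ _ F) = c := by
      simp [mul_assoc]
    rwa [this]
  · rintro ⟨h1, h2⟩ k
    refine ⟨h1 k, fun hk => ?_⟩
    have := h2 _ hk
    have e : ((g⁻¹ : GL (Fin n) F) : Matrix _ _ F) * ((g : Matrix (Fin n) (Fin n) F) * k *
        ((g⁻¹ : GL (Fin n) F) : Matrix _ _ F)) * (g : Matrix (Fin n) (Fin n) F) = k := by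
      simp [mul_assoc]
    rwa [e] at this

section Conj

variable (K : Subalgebra F (Matrix (Fin n) (Fin n) F))

/-- Semilinearity in terms of matrices. -/
theorem exists_conj_of_semi {A B : Matrix (Fin n) (Fin n) F} (hAB : A * B = 1) (hBA : B * A = 1)
    {c c' : Matrix (Fin n) (Fin n) F} (h : ∀ v : Fin n → F, A *ᵥ (c *ᵥ v) = c' *ᵥ (A *ᵥ v)) :
    A * c * B = c' := by
  have h1 : A * c = c' * A := by
    apply Matrix.ext_of_mulVec_single
    intro i
    rw [← Matrix.mulVec_mulVec, ← Matrix.mulVec_mulVec]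
    exact h _
  rw [h1, mul_assoc, hAB, mul_one]

end Conj

/-- Final statement. -/
theorem final [Fintype F] (r : ℕ) (hr : r.Prime) (hlt : r < n)
    (K : Subalgebra F (Matrix (Fin n) (Fin n) F)) (hK : IsFieldSubalgebra r K) :
    IsCoatom (subalgebraNormalizer K) ∧
      IsMaximalIn (specialLinear (Fin n) F)
        (subalgebraNormalizer K ⊓ specialLinear (Fin n) F) := by
  classical
  have hn : 0 < n := by omega
  letI fK : Field K := (isField_of_isFieldSubalgebra hn hK).toField
  letI mK : Module K (Fin n → F) :=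
    { smul := fun c v => (c : Matrix (Fin n) (Fin n) F) *ᵥ v
      one_smul := fun v => Matrix.one_mulVec v
      mul_smul := fun a b v => (Matrix.mulVec_mulVec v _ _).symm
      smul_zero := fun a => Matrix.mulVec_zero _
      smul_add := fun a x y => Matrix.mulVec_add _ x y
      add_smul := fun a b v => Matrix.add_mulVec _ _ v
      zero_smul := fun v => Matrix.zero_mulVec v }
  have hsmul : ∀ (c : K) (v : Fin n → F), c • v = (c : Matrix (Fin n) (Fin n) F) *ᵥ v :=
    fun c v => rfl
  haveI tK : IsScalarTower F K (Fin n → F) :=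
    ⟨fun f c v => by
      rw [hsmul, hsmul]
      exact Matrix.smul_mulVec _ _ _⟩
  have hfr : finrank F K = r := hK.finrank_eq
  refine abstract_main (K := K) (by rw [hfr]; exact hr) ?_ _ ?_
  · intro w
    by_contra hall
    push Not at hall
    let ι : K →ₗ[F] (Fin n → F) := (LinearMap.toSpanSingleton K (Fin n → F) w).restrictScalars F
    have hsurj : Function.Surjective ι := by
      intro z
      obtain ⟨c, hc⟩ := Submodule.mem_span_singleton.mp (hall z)
      exact ⟨c, hc⟩
    have h1 := LinearMap.finrank_le_finrank_of_surjective hsurj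
    simp only [finrank_fin_fun] at h1
    omega
  · intro g
    rw [mem_norm_iff]
    constructor
    · rintro ⟨h1, h2⟩
      refine ⟨fun c => ⟨⟨_, h1 c.1 c.2⟩, fun v => ?_⟩, fun c => ⟨⟨_, h2 c.1 c.2⟩, fun v => ?_⟩⟩
      · rw [eL_apply, eL_apply, hsmul, hsmul]
        simp [Matrix.mulVec_mulVec, mul_assoc]
      · rw [eL_inv_apply, eL_inv_apply, hsmul, hsmul]
        simp [Matrix.mulVec_mulVec, mul_assoc]
    · rintro ⟨h1, h2⟩
      constructor
      · intro c hc
        obtain ⟨c', hc'⟩ := h1 ⟨c, hc⟩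
        have := exists_conj_of_semi (A := (g : Matrix (Fin n) (Fin n) F))
          (B := ((g⁻¹ : GL (Fin n) F) : Matrix _ _ F)) (by simp) (by simp)
          (c := c) (c' := c'.1) (fun v => by
            have := hc' v
            rwa [eL_apply, eL_apply, hsmul, hsmul] at this)
        rw [this]
        exact c'.2
      · intro c hc
        obtain ⟨c', hc'⟩ := h2 ⟨c, hc⟩
        have := exists_conj_of_semi (A := ((g⁻¹ : GL (Fin n) F) : Matrix _ _ F))
          (B := (g : Matrix (Fin n) (Fin n) F)) (by simp) (by simp)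
          (c := c) (c' := c'.1) (fun v => by
            have := hc' v
            rwa [eL_inv_apply, eL_inv_apply, hsmul, hsmul] at this)
        rw [this]
        exact c'.2

end Cfsg.Agent.Lib.ExtField.Top
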